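import Cfsg.Agent.Omega.ThmC.TwoN

/-!
# THEOREM L2 (bb OMEGA 18061, helper290): (B4), the ends of (B5), (B6) at the level of `N = N_G(E)/C_G(E)`

`D : ThmC.NDat T π σ z` (`T = S/A`, index set = the duads in `MM`), `tt l` = the transposition `(l l*)` in `T`;
`R` a 2-group which contains the stabiliser of `o` in `T`, `W ≤ R`, `W ⊓ T = 1`.  `Sm D t` : the rank of `t` is at most
`d = dim C_l`.

* `uniq_small` : `W` contains at most one small element `≠ 1`;
* `false_of_far` : a small element `t ≠ 1` of `W` moves `C_o + C_o*`;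
* `supp_of_comm` : if `t` commutes with all `π l`, `l ≠ o, o*`, then `t` is supported on `{o, o*}`;

-/

set_option autoImplicit false

namespace Cfsg.Agent.Omega.IId.SymTwo5.Cnt

open Subgroup Cfsg.Agent.Omega.ThmC Cfsg.Agent.Omega.ThmC.NDat

variable {N : Type*} [Group N] {T : Sylow 2 N} {A : Type*} [AddCommGroup A]
  [DistribMulAction N A] {ι : Type*} [Fintype ι] {π : ι → A →+ A} {σ : N → ι → ι} {z : ι → A}

/-- small rank -/
def Sm (π : ι → A →+ A) (t : N) : Prop := ∀ l, Nat.card (mv (A := A) t).range ≤ Nat.card {a : A // π l a = a}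

section star

variable (D : NDat T π σ z) {star : ι → ι} {tt : ι → N} (htt : ∀ l, Tp T π σ (tt l) l (star l))

include D htt

theorem tt_star (l : ι) : tt (star l) = tt l :=
  (htt (star l)).unique D (htt l).symm

theorem star_star (l : ι) : star (star l) = l := (htt (star l)).right_unique D (htt l).symm

omit [Fintype ι] D in
theorem eq_or_of_tt {l m : ι} (h : tt l = tt m) : l = m ∨ l = star m := by
  by_contra hcon
  push Not at hcon
  have h1 := (htt m).off l hcon.1 hcon.2
  rw [← h, (htt l).ab] at h1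
  exact (htt l).ne h1.symm

/-- a small element of a 2-group -/
theorem exists_tt [Finite A] {g t : N} (hg : g * t * g⁻¹ ∈ (T : Subgroup N)) (h1 : t ≠ 1) (hs : Sm π t) (l₀ : ι) :
    ∃ l, g * t * g⁻¹ = tt l := by
  obtain ⟨a, b, h⟩ := D.exists_Tp hg (fun h => h1 (conj_eq_one_iff.1 h)) l₀ (by rw [rk_conj]; exact hs l₀)
  exact ⟨a, h.unique D (htt a)⟩

end star

section main

variable [Finite N] [Finite A] (D : NDat T π σ z) {star : ι → ι} {tt : ι → N} (htt : ∀ l, Tp T π σ (tt l) l (star l))
  {P : Subgroup N} (hP : IsPGroup 2 P) {o : ι} (hPt : ∀ l, l ≠ o → l ≠ star o → tt l ∈ P)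

include D htt hP hPt

open Classical in
/-- the conjugates of the small elements -/
theorem small_aux {t : N} (ht : t ∈ P) (h1 : t ≠ 1) (hs : Sm π t) (hne : ∀ l, t ≠ tt l) :
    ∃ g : N, (∀ x ∈ P, g * x * g⁻¹ ∈ (T : Subgroup N)) ∧
      (∀ l, ∃ x, (x = t ∨ ∃ m, m ≠ o ∧ m ≠ star o ∧ x = tt m) ∧ g * x * g⁻¹ = tt l) := by
  obtain ⟨g, hg⟩ := exists_conj T hP
  refine ⟨g, hg, ?_⟩
  let f : N → N := fun x => g * x * g⁻¹
  have hf : Function.Injective f := fun x y h => mul_left_cancel (mul_right_cancel h)
  let B : Finset N := Finset.univ.image tt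
  let B' : Finset N := (Finset.univ.filter fun m => m ≠ o ∧ m ≠ star o).image tt
  have hB' : ∀ x, x ∈ B' ↔ ∃ m, m ≠ o ∧ m ≠ star o ∧ x = tt m := by
    intro x
    simp only [B', Finset.mem_image, Finset.mem_filter, Finset.mem_univ, true_and]
    constructor
    · rintro ⟨m, ⟨h1, h2⟩, rfl⟩
      exact ⟨m, h1, h2, rfl⟩
    · rintro ⟨m, h1, h2, rfl⟩
      exact ⟨m, ⟨h1, h2⟩, rfl⟩
  have hBB' : B = insert (tt o) B' := by
    ext x
    rw [Finset.mem_insert, hB', Finset.mem_image]
    constructor
    · rintro ⟨m, -, rfl⟩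
      by_cases hm : m = o
      · rw [hm]; exact Or.inl rfl
      by_cases hm' : m = star o
      · rw [hm', tt_star D htt]; exact Or.inl rfl
      exact Or.inr ⟨m, hm, hm', rfl⟩
    · rintro (rfl | ⟨m, -, -, rfl⟩)
      · exact ⟨o, Finset.mem_univ _, rfl⟩
      · exact ⟨m, Finset.mem_univ _, rfl⟩
  have hoB' : tt o ∉ B' := by
    rw [hB']
    rintro ⟨m, hm, hm', h⟩
    rcases eq_or_of_tt htt h.symm with h2 | h2
    · exact hm h2
    · exact hm' h2
  have htB' : t ∉ B' := by
    rw [hB']
    rintro ⟨m, -, -, h⟩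
    exact hne m h
  have hcard : (insert t B').card = B.card := by
    rw [hBB', Finset.card_insert_of_notMem htB', Finset.card_insert_of_notMem hoB']
  have hsm : ∀ l, Sm π (tt l) := fun l m => by
    rw [D.card_C_eq m l]
    exact D.rk_le (htt l).ne (htt l).supp (htt l).sq
  have hmem : ∀ x ∈ insert t B', f x ∈ B := by
    intro x hx
    rw [Finset.mem_insert, hB'] at hx
    have h3 : ∃ l, f x = tt l := by
      rcases hx with rfl | ⟨m, hm, hm', rfl⟩
      · exact exists_tt D htt (hg _ ht) h1 hs o
      · exact exists_tt D htt (hg _ (hPt m hm hm')) ((htt m).ne_one D) (hsm m) o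
    obtain ⟨l, hl⟩ := h3
    rw [hl]
    exact Finset.mem_image_of_mem _ (Finset.mem_univ _)
  have himg : (insert t B').image f = B := by
    apply Finset.eq_of_subset_of_card_le
    · intro y hy
      obtain ⟨x, hx, rfl⟩ := Finset.mem_image.1 hy
      exact hmem x hx
    · rw [Finset.card_image_of_injective _ hf, hcard]
  intro l
  have h3 : tt l ∈ (insert t B').image f := by
    rw [himg]
    exact Finset.mem_image_of_mem _ (Finset.mem_univ _)
  obtain ⟨x, hx, hx'⟩ := Finset.mem_image.1 h3
  rw [Finset.mem_insert, hB'] at hx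
  exact ⟨x, hx, hx'⟩

/-- (B4): at most one small element of `P` besides the `tt l`, `l ≠ o, o*` -/
theorem uniq_small {t t' : N} (ht : t ∈ P) (ht' : t' ∈ P) (h1 : t ≠ 1) (h1' : t' ≠ 1) (hs : Sm π t) (hs' : Sm π t')
    (hne : ∀ l, t ≠ tt l) (hne' : ∀ l, t' ≠ tt l) : t = t' := by
  obtain ⟨g, hg, h⟩ := small_aux D htt hP hPt ht h1 hs hne
  obtain ⟨l, hl⟩ := exists_tt D htt (hg _ ht') h1' hs' o
  obtain ⟨x, hx, hx'⟩ := h l
  have h2 : t' = x := mul_left_cancel (mul_right_cancel (hl.trans hx'.symm))
  rcases hx with rfl | ⟨m, -, -, rfl⟩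
  · exact h2.symm
  · exact absurd h2 (hne' m)

/-- (F): a small `t` centralises `[E, tt l]` -/
theorem fix_mv {t : N} (ht : t ∈ P) (h1 : t ≠ 1) (hs : Sm π t) (hne : ∀ l, t ≠ tt l) {l : ι} (hl : l ≠ o)
    (hl' : l ≠ star o) (w : A) : t • (tt l • w - w) = tt l • w - w := by
  have hsm : Nat.card (mv (A := A) (tt l)).range ≤ Nat.card {a : A // π o a = a} := by
    rw [D.card_C_eq o l]
    exact D.rk_le (htt l).ne (htt l).supp (htt l).sq
  obtain ⟨hc, hi, -⟩ := D.F o hP ht (hPt l hl hl') h1 ((htt l).ne_one D) (hne l) (hs o) hsm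
  apply hi _ (t • w - w)
  rw [smul_sub t, smul_sub (tt l), ← mul_smul, hc, mul_smul]
  abel

/-- (B5), the end: a small element of `P` besides the `tt l`, `l ≠ o, o*`, moves `C_o + C_o*` -/
theorem false_of_far {t : N} (ht : t ∈ P) (h1 : t ≠ 1) (hs : Sm π t) (hne : ∀ l, t ≠ tt l)
    (hfo : ∀ a, t • π o a = π o a) (hfo' : ∀ a, t • π (star o) a = π (star o) a) : False := by
  classical
  -- `C_E(tt l : l ≠ o, o*) ≤ C_E(t)`
  have key : ∀ (n : ℕ) (e : A), (∀ l, l ≠ o → l ≠ star o → tt l • e = e) →
      (Finset.univ.filter fun l => l ≠ o ∧ l ≠ star o ∧ π l e ≠ 0).card ≤ n → t • e = e := by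
    intro n
    induction n with
    | zero =>
      intro e _ hn
      have h0 : ∀ l, l ≠ o → l ≠ star o → π l e = 0 := by
        intro l hl hl'
        by_contra h
        have h3 : l ∈ Finset.univ.filter fun l => l ≠ o ∧ l ≠ star o ∧ π l e ≠ 0 :=
          Finset.mem_filter.2 ⟨Finset.mem_univ _, hl, hl', h⟩
        rw [Finset.card_eq_zero.1 (Nat.le_zero.1 hn)] at h3
        exact absurd h3 (Finset.notMem_empty _)
      have h2 := D.XX_eq (htt o).ne (v := e) h0
      rw [← h2, smul_add, hfo, hfo']
    | succ n ih =>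
      intro e he hn
      by_cases hex : ∃ l, l ≠ o ∧ l ≠ star o ∧ π l e ≠ 0
      swap
      · push Not at hex
        have h2 := D.XX_eq (htt o).ne (v := e) hex
        rw [← h2, smul_add, hfo, hfo']
      obtain ⟨l, hl, hl', h0⟩ := hex
      -- `e' = e - (π l e + π l* e)`
      have hcomp : π (star l) e = tt l • π l e := by
        have h3 := D.perm _ (htt l).mem l e
        rw [(htt l).ab, he l hl hl'] at h3
        exact h3.symm
      have hfix : t • (π l e + π (star l) e) = π l e + π (star l) e := by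
        have h3 := fix_mv D htt hP hPt ht h1 hs hne hl hl' (π l e)
        rw [← hcomp, sub_eq_add_neg, D.neg_eq, add_comm] at h3
        exact h3
      have h4 : t • (e - (π l e + π (star l) e)) = e - (π l e + π (star l) e) := by
        refine ih _ (fun m hm hm' => ?_) ?_
        · rw [smul_sub, he m hm hm']
          congr 1
          rw [smul_add, D.perm _ (htt m).mem, D.perm _ (htt m).mem, he m hm hm']
          by_cases h5 : l = m
          · subst h5
            rw [(htt l).ab, (htt l).ba, add_comm]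
          by_cases h6 : l = star m
          · have h7 : star l = m := by rw [h6, star_star D htt]
            rw [h7, h6, (htt m).ba, (htt m).ab, add_comm]
          · have h7 : star l ≠ m := fun h => h6 (by rw [← h, star_star D htt])
            have h8 : star l ≠ star m := fun h => h5 (by rw [← star_star D htt l, h, star_star D htt])
            rw [(htt m).off l h5 h6, (htt m).off _ h7 h8]
        · have hlt : (Finset.univ.filter fun k => k ≠ o ∧ k ≠ star o ∧ π k (e - (π l e + π (star l) e)) ≠ 0) ⊂
              (Finset.univ.filter fun k => k ≠ o ∧ k ≠ star o ∧ π k e ≠ 0) := by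
            rw [Finset.ssubset_iff_of_subset]
            · refine ⟨l, Finset.mem_filter.2 ⟨Finset.mem_univ _, hl, hl', h0⟩, fun h => ?_⟩
              apply (Finset.mem_filter.1 h).2.2.2
              rw [map_sub, map_add, D.idem, D.orth l (star l) (htt l).ne, add_zero, sub_self]
            · intro k hk
              obtain ⟨-, hk1, hk2, hk3⟩ := Finset.mem_filter.1 hk
              refine Finset.mem_filter.2 ⟨Finset.mem_univ _, hk1, hk2, fun h => hk3 ?_⟩
              by_cases h5 : k = l
              · rw [h5, map_sub, map_add, D.idem, D.orth l (star l) (htt l).ne, add_zero, sub_self]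
              by_cases h6 : k = star l
              · rw [h6, map_sub, map_add, D.idem, D.orth (star l) l (htt l).ne.symm, zero_add, sub_self]
              · rw [map_sub, map_add, D.orth k l h5, D.orth k _ h6, add_zero, sub_zero, h]
          have := Finset.card_lt_card hlt
          omega
      have h5 : e = (e - (π l e + π (star l) e)) + (π l e + π (star l) e) := by abel
      rw [h5, smul_add, h4, hfix]
  -- `E = C_E(t) + C_E(tt l)`
  obtain ⟨g, hg, h⟩ := small_aux D htt hP hPt ht h1 hs hne
  obtain ⟨l, hl⟩ := exists_tt D htt (hg _ ht) h1 hs o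
  apply h1
  apply D.faith
  intro u
  have hact : ∀ (x : N) (v : A), x • g⁻¹ • v = g⁻¹ • (g * x * g⁻¹) • v := by
    intro x v
    rw [← mul_smul, ← mul_smul]
    congr 1
    group
  have hu : u = g⁻¹ • (g • u - (π l (g • u) + π (star l) (g • u))) + g⁻¹ • (π l (g • u) + π (star l) (g • u)) := by
    rw [← smul_add, sub_add_cancel, inv_smul_smul]
  have e1 : t • g⁻¹ • (g • u - (π l (g • u) + π (star l) (g • u))) =
      g⁻¹ • (g • u - (π l (g • u) + π (star l) (g • u))) := by
    rw [hact, hl]
    congr 1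
    apply D.smul_of_supp (htt l).supp
    · rw [map_sub, map_add, D.idem, D.orth l (star l) (htt l).ne, add_zero, sub_self]
    · rw [map_sub, map_add, D.idem, D.orth (star l) l (htt l).ne.symm, zero_add, sub_self]
  have e2 : t • g⁻¹ • (π l (g • u) + π (star l) (g • u)) = g⁻¹ • (π l (g • u) + π (star l) (g • u)) := by
    refine key _ _ (fun m hm hm' => ?_) le_rfl
    rw [hact]
    congr 1
    obtain ⟨k, hk⟩ := exists_tt D htt (hg _ (hPt m hm hm')) ((htt m).ne_one D) (fun j => by
      rw [D.card_C_eq j m]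
      exact D.rk_le (htt m).ne (htt m).supp (htt m).sq) o
    rw [hk]
    have hkl : ¬ (k = l ∨ k = star l) := by
      intro hkl
      have h3 : tt k = tt l := by
        rcases hkl with rfl | rfl
        · rfl
        · exact tt_star D htt l
      rw [h3, ← hl] at hk
      exact hne m (mul_left_cancel (mul_right_cancel hk)).symm
    push Not at hkl
    apply D.smul_of_supp (htt k).supp
    · rw [map_add, D.orth k l hkl.1, D.orth k _ hkl.2, add_zero]
    · rw [map_add, D.orth (star k) l, D.orth (star k) (star l), add_zero]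
      · intro h
        exact hkl.1 (by rw [← star_star D htt k, h, star_star D htt])
      · intro h
        exact hkl.2 (by rw [← h, star_star D htt])
  conv_lhs => rw [hu]
  rw [smul_add, e1, e2, ← hu]

/-- (B6): `t` is supported on `{o, o*}` -/
theorem supp_of_comm {t : N} (ht : t ∈ P) (h1 : t ≠ 1) (hs : Sm π t) (hne : ∀ l, t ≠ tt l)
    (hcomm : ∀ l, l ≠ o → l ≠ star o → ∀ a, t • π l a = π l (t • a)) : t ∈ SuppG N π o (star o) := by
  intro l hl hl'
  have hfix : ∀ v, t • π l v = π l v := by
    intro v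
    have h2 := fix_mv D htt hP hPt ht h1 hs hne hl hl' (π l v)
    have h3 := congrArg (π l) h2
    rw [← hcomm l hl hl', map_sub] at h3
    have h4 : π l (tt l • π l v) = 0 := by
      apply D.pi_smul_of_ne (htt l).mem _ (D.idem l v)
      rw [(htt l).ab]
      exact (htt l).ne
    rw [h4, D.idem, zero_sub, smul_neg, neg_inj] at h3
    exact h3
  exact ⟨hfix, fun v => by rw [← hcomm l hl hl', hfix]⟩

end main

end Cfsg.Agent.Omega.IId.SymTwo5.Cnt
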