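import Mathlib

/-!
# Commuting idempotents permuted by a 2-group (bb OMEGA 18061, (A1), (A4))

A 2-group `𝒮` acts on the elementary abelian 2-group `F ≤ A`; commuting idempotents `ε l` of `F` are permuted by
`𝒮`; the only nonzero `𝒮`-fixed vector of `F` is `z = ∑ v l` with `ε l (v l) = 0`, `ε l (v m) = v m` (`m ≠ l`).
Then the complementary idempotents `1 + ε l` are orthogonal with sum `1`.
-/

set_option autoImplicit false

namespace Cfsg.Agent.Omega.IId.SymTwo5

/-- a nonzero invariant subgroup contains a nonzero fixed vector of a 2-group -/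
theorem exists_fixed {A 𝒮 : Type*} [AddCommGroup A] [Finite A] [Group 𝒮] [DistribMulAction 𝒮 A]
    (h2 : ∀ a : A, a + a = 0) (hS : IsPGroup 2 𝒮) {B : AddSubgroup A}
    (hB : ∀ s : 𝒮, ∀ b ∈ B, s • b ∈ B) (hne : B ≠ ⊥) : ∃ b ∈ B, b ≠ 0 ∧ ∀ s : 𝒮, s • b = b := by
  have : Fact (Nat.Prime 2) := ⟨Nat.prime_two⟩
  let act : MulAction 𝒮 B :=
    { smul := fun s b => ⟨s • (b : A), hB s b b.2⟩
      one_smul := fun b => Subtype.ext (one_smul _ _)
      mul_smul := fun s t b => Subtype.ext (mul_smul _ _ _) }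
  have hsm : ∀ (s : 𝒮) (b : B), ((s • b : B) : A) = s • (b : A) := fun _ _ => rfl
  obtain ⟨b, hb0⟩ := AddSubgroup.ne_bot_iff_exists_ne_zero.1 hne
  have hdvd : 2 ∣ Nat.card B := by
    have h1 : addOrderOf b = 2 := by
      refine addOrderOf_eq_prime ?_ hb0
      rw [two_nsmul]
      exact Subtype.ext (h2 b)
    rw [← h1]
    exact addOrderOf_dvd_natCard _
  obtain ⟨c, hc, hc0⟩ := hS.exists_fixed_point_of_prime_dvd_card_of_fixed_point B hdvd
    (a := (0 : B)) (fun s => Subtype.ext (by rw [hsm]; exact smul_zero _))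
  refine ⟨c, c.2, fun h => hc0 (Subtype.ext h.symm), fun s => ?_⟩
  have h3 := hc s
  have h4 := congrArg Subtype.val h3
  rwa [hsm] at h4

/-- the data of (A1), (A4) -/
structure IDat {A ι 𝒮 : Type*} [AddCommGroup A] [Fintype ι] [Group 𝒮] [DistribMulAction 𝒮 A]
    (F : AddSubgroup A) (ε : ι → A →+ A) (σ : 𝒮 → ι → ι) (v : ι → A) : Prop where
  two : ∀ a : A, a + a = 0
  s2 : IsPGroup 2 𝒮
  inv : ∀ s : 𝒮, ∀ a ∈ F, s • a ∈ F
  mem : ∀ l, ∀ a ∈ F, ε l a ∈ F
  idem : ∀ l, ∀ a ∈ F, ε l (ε l a) = ε l a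
  comm : ∀ l m, ∀ a ∈ F, ε l (ε m a) = ε m (ε l a)
  perm : ∀ (s : 𝒮) l, ∀ a ∈ F, s • ε l a = ε (σ s l) (s • a)
  inj : ∀ (s : 𝒮) l m, σ s l = σ s m → l = m
  vF : ∀ l, v l ∈ F
  v0 : ∀ l, v l ≠ 0
  vl : ∀ l, ε l (v l) = 0
  vm : ∀ l m, l ≠ m → ε l (v m) = v m
  fix : ∀ a ∈ F, (∀ s : 𝒮, s • a = a) → a = 0 ∨ a = ∑ l, v l

namespace IDat

variable {A ι 𝒮 : Type*} [AddCommGroup A] [Finite A] [Fintype ι] [Group 𝒮] [DistribMulAction 𝒮 A]
  {F : AddSubgroup A} {ε : ι → A →+ A} {σ : 𝒮 → ι → ι} {v : ι → A}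

/-- composition of the `ε l`, `l` in a list -/
def eL (ε : ι → A →+ A) : List ι → A →+ A
  | [] => AddMonoidHom.id A
  | l :: L => (ε l).comp (eL ε L)

omit [Finite A] in
theorem eL_mem (D : IDat F ε σ v) (L : List ι) {a : A} (ha : a ∈ F) : eL ε L a ∈ F := by
  induction L with
  | nil => exact ha
  | cons l L ih => exact D.mem l _ ih

omit [Finite A] in
theorem eL_comm (D : IDat F ε σ v) (L : List ι) (m : ι) {a : A} (ha : a ∈ F) :
    eL ε L (ε m a) = ε m (eL ε L a) := by
  induction L with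
  | nil => rfl
  | cons l L ih =>
    change ε l (eL ε L (ε m a)) = ε m (ε l (eL ε L a))
    rw [ih, D.comm _ _ _ (D.eL_mem L ha)]

omit [Finite A] in
theorem eL_kill (D : IDat F ε σ v) (L : List ι) {m : ι} (hm : m ∈ L) {a : A} (ha : a ∈ F) :
    eL ε L (a + ε m a) = 0 := by
  induction L with
  | nil => exact absurd hm (List.not_mem_nil)
  | cons l L ih =>
    change ε l (eL ε L (a + ε m a)) = 0
    rcases List.mem_cons.1 hm with rfl | hm
    · rw [map_add, eL_comm D L m ha, map_add, D.idem m _ (D.eL_mem L ha), D.two]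
    · rw [ih hm, map_zero]

omit [Finite A] in
theorem eL_v (D : IDat F ε σ v) (L : List ι) {m : ι} (hm : m ∉ L) : eL ε L (v m) = v m := by
  induction L with
  | nil => rfl
  | cons l L ih =>
    change ε l (eL ε L (v m)) = v m
    rw [ih fun h => hm (List.mem_cons_of_mem _ h), D.vm l m fun h => hm (h ▸ List.mem_cons_self)]

omit [Finite A] in
theorem eL_v0 (D : IDat F ε σ v) (L : List ι) {m : ι} (hm : m ∈ L) : eL ε L (v m) = 0 := by
  have h := D.eL_kill L hm (D.vF m)
  rwa [D.vl, add_zero] at h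

/-- nothing is fixed by all `ε l` -/
theorem eq_zero (D : IDat F ε σ v) {a : A} (ha : a ∈ F) (h : ∀ l, ε l a = a) : a = 0 := by
  let B : AddSubgroup A :=
    { carrier := {a | a ∈ F ∧ ∀ l, ε l a = a}
      zero_mem' := ⟨zero_mem _, fun l => map_zero _⟩
      add_mem' := fun {a b} ha hb => ⟨add_mem ha.1 hb.1, fun l => by rw [map_add, ha.2, hb.2]⟩
      neg_mem' := fun {a} ha => ⟨neg_mem ha.1, fun l => by rw [map_neg, ha.2]⟩ }
  by_contra h0
  have hne : B ≠ ⊥ := fun hB => h0 (by
    have : a ∈ B := ⟨ha, h⟩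
    rw [hB] at this
    exact this)
  obtain ⟨b, hb, hb0, hbs⟩ := exists_fixed D.two D.s2 (B := B) (fun s b hb => ⟨D.inv s b hb.1, by
    have hinj : Function.Injective (σ s) := fun l m => D.inj s l m
    intro l
    obtain ⟨m, rfl⟩ := (Finite.injective_iff_surjective.1 hinj) l
    rw [← D.perm s m b hb.1, hb.2]⟩) hne
  rcases D.fix b hb.1 hbs with h1 | h1
  · exact hb0 h1
  · rcases isEmpty_or_nonempty ι with hι | ⟨⟨l⟩⟩
    · apply hb0
      rw [h1]
      exact Finset.sum_of_isEmpty _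
    · have h2 := hb.2 l
      rw [h1, map_sum] at h2
      have h3 : ∀ m ∈ Finset.univ, m ≠ l → ε l (v m) = v m := fun m _ hm => D.vm l m hm.symm
      classical
      rw [← Finset.sum_erase_add _ _ (Finset.mem_univ l), ← Finset.sum_erase_add _ _ (Finset.mem_univ l), D.vl,
        Finset.sum_congr rfl fun m hm => h3 m (Finset.mem_univ m) (Finset.ne_of_mem_erase hm)] at h2
      exact D.v0 l (add_left_cancel h2).symm

/-- `1 + ε i`, `1 + ε j` are orthogonal -/
theorem orth (D : IDat F ε σ v) {i j : ι} (hij : i ≠ j) {a : A} (ha : a ∈ F) :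
    a + ε i a + ε j (a + ε i a) = 0 := by
  classical
  let X : Set A := {x | ∃ i j, i ≠ j ∧ ∃ a ∈ F, x = a + ε i a + ε j (a + ε i a)}
  let B : AddSubgroup A := AddSubgroup.closure X
  by_contra h0
  have hne : B ≠ ⊥ := fun hB => h0 (by
    have : a + ε i a + ε j (a + ε i a) ∈ B := AddSubgroup.subset_closure ⟨i, j, hij, a, ha, rfl⟩
    rw [hB] at this
    exact this)
  have hXF : X ⊆ F := by
    rintro _ ⟨i, j, -, a, ha, rfl⟩
    have := add_mem ha (D.mem i a ha)
    exact add_mem this (D.mem j _ this)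
  have hBF : B ≤ F := (AddSubgroup.closure_le F).2 hXF
  have hBs : ∀ s : 𝒮, ∀ b ∈ B, s • b ∈ B := by
    intro s b hb
    induction hb using AddSubgroup.closure_induction with
    | mem x hx =>
      obtain ⟨i, j, hij, a, ha, rfl⟩ := hx
      apply AddSubgroup.subset_closure
      refine ⟨σ s i, σ s j, fun h => hij (D.inj s i j h), s • a, D.inv s a ha, ?_⟩
      rw [smul_add, smul_add, D.perm s i a ha, D.perm s j _ (add_mem ha (D.mem i a ha)), smul_add, D.perm s i a ha]
    | zero => rw [smul_zero]; exact zero_mem _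
    | add x y _ _ hx hy => rw [smul_add]; exact add_mem hx hy
    | neg x _ hx => rw [smul_neg]; exact neg_mem hx
  obtain ⟨b, hb, hb0, hbs⟩ := exists_fixed D.two D.s2 hBs hne
  rcases D.fix b (hBF hb) hbs with h1 | h1
  · exact hb0 h1
  · let L : List ι := (Finset.univ.erase i).toList
    have hL : ∀ m, m ≠ i → m ∈ L := fun m hm => Finset.mem_toList.2 (Finset.mem_erase.2 ⟨hm, Finset.mem_univ m⟩)
    have hiL : i ∉ L := fun h => (Finset.mem_erase.1 (Finset.mem_toList.1 h)).1 rfl
    have hk : eL ε L b = 0 := by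
      clear h1 hb0 hbs
      induction hb using AddSubgroup.closure_induction with
      | mem x hx =>
        obtain ⟨i', j', hij', a, ha, rfl⟩ := hx
        by_cases h : i' = i
        · exact D.eL_kill L (hL j' fun h' => hij' (h.trans h'.symm)) (add_mem ha (D.mem i' a ha))
        · rw [map_add, D.eL_comm L j' (add_mem ha (D.mem i' a ha)), D.eL_kill L (hL i' h) ha, map_zero, add_zero]
      | zero => exact map_zero _
      | add x y _ _ hx hy => rw [map_add, hx, hy, add_zero]
      | neg x _ hx => rw [map_neg, hx, neg_zero]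
    rw [h1, map_sum, ← Finset.sum_erase_add _ _ (Finset.mem_univ i),
      Finset.sum_eq_zero fun m hm => D.eL_v0 L (hL m (Finset.ne_of_mem_erase hm)), zero_add, D.eL_v L hiL] at hk
    exact D.v0 i hk

/-- `∑ (1 + ε l) = 1` -/
theorem sum (D : IDat F ε σ v) {a : A} (ha : a ∈ F) : ∑ l, (a + ε l a) = a := by
  classical
  have hF : ∀ l, a + ε l a ∈ F := fun l => add_mem ha (D.mem l a ha)
  have h1 : ∑ l, (a + ε l a) + a = 0 := by
    refine D.eq_zero (add_mem (sum_mem fun l _ => hF l) ha) fun m => ?_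
    have hm : ε m (∑ l, (a + ε l a)) = ∑ l, (a + ε l a) + (a + ε m a) := by
      have h3 : ∀ l, ε m (a + ε l a) + (a + ε l a) = if l = m then a + ε m a else 0 := by
        intro l
        split_ifs with h
        · subst h
          rw [map_add, D.idem l a ha, D.two, zero_add]
        · have := D.orth h ha
          rw [add_comm]
          exact this
      have h4 : ε m (∑ l, (a + ε l a)) + ∑ l, (a + ε l a) = a + ε m a := by
        rw [map_sum, ← Finset.sum_add_distrib, Finset.sum_congr rfl fun l _ => h3 l, Finset.sum_ite_eq']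
        simp
      rw [← h4, add_comm (ε m _), ← add_assoc, D.two, zero_add]
    rw [map_add, hm, add_assoc, add_assoc, D.two, add_zero]
  have h5 : -a = a := neg_eq_of_add_eq_zero_left (D.two a)
  rw [add_eq_zero_iff_eq_neg, h5] at h1
  exact h1

end IDat

end Cfsg.Agent.Omega.IId.SymTwo5
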