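import Cfsg.Agent.Omega.IId.SymTwo5.Halve
import Cfsg.Agent.Omega.IId.SymTwo5.Idem

/-!
# The decomposition of `E = C_ZZ(A)` (bb OMEGA 18061, (A1)-(A4))

`ι → Perm (Fin 5)` acts on the elementary abelian 2-group `A`, the 2-group `𝒮` acts semilinearly.
-/

set_option autoImplicit false

namespace Cfsg.Agent.Omega.IId.SymTwo5

open Equiv Five

/-- the Sylow 2-subgroup `⟨(12), (34), (13)(24)⟩` -/
def RR : Subgroup P5 := Subgroup.closure {t1, s0}

theorem t1_mem : t1 ∈ RR := Subgroup.subset_closure (Or.inl rfl)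
theorem s0_mem : s0 ∈ RR := Subgroup.subset_closure (Or.inr rfl)
theorem t2_mem : t2 ∈ RR := by
  have e : t2 = s0 * t1 * s0 := by decide
  rw [e]
  exact mul_mem (mul_mem s0_mem t1_mem) s0_mem

theorem RR_zero {g : P5} (hg : g ∈ RR) : g 0 = 0 := by
  induction hg using Subgroup.closure_induction with
  | mem x hx =>
    rcases hx with rfl | rfl
    · decide
    · decide
  | one => rfl
  | mul x y _ _ hx hy => rw [Perm.mul_apply, hy, hx]
  | inv x _ hx => rw [Perm.inv_eq_iff_eq, hx]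

/-- an element of `R` normalises `J` -/
theorem RR_conj {g : P5} (hg : g ∈ RR) :
    (g * t1 * g⁻¹ = t1 ∧ g * t2 * g⁻¹ = t2) ∨ (g * t1 * g⁻¹ = t2 ∧ g * t2 * g⁻¹ = t1) := by
  induction hg using Subgroup.closure_induction with
  | mem x hx =>
    rcases hx with rfl | rfl
    · decide
    · decide
  | one => exact Or.inl ⟨by group, by group⟩
  | mul x y _ _ hx hy =>
    have e : ∀ t : P5, x * y * t * (x * y)⁻¹ = x * (y * t * y⁻¹) * x⁻¹ := fun t => by group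
    rw [e, e]
    rcases hx with ⟨h1, h2⟩ | ⟨h1, h2⟩ <;> rcases hy with ⟨h3, h4⟩ | ⟨h3, h4⟩ <;> rw [h3, h4, h1, h2] <;> simp
  | inv x _ hx =>
    rw [inv_inv]
    rcases hx with ⟨h1, h2⟩ | ⟨h1, h2⟩
    · left
      constructor
      · conv_lhs => rw [← h1]
        group
      · conv_lhs => rw [← h2]
        group
    · right
      constructor
      · conv_lhs => rw [← h2]
        group
      · conv_lhs => rw [← h1]
        group

/-- an element of `R` permutes `{x₁, x₁²}`, `{x₂, x₂²}` -/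
theorem RR_conjx {g : P5} (hg : g ∈ RR) :
    (((g * x1 * g⁻¹ = x1 ∧ g * (x1 * x1) * g⁻¹ = x1 * x1) ∨ (g * x1 * g⁻¹ = x1 * x1 ∧ g * (x1 * x1) * g⁻¹ = x1)) ∧
      ((g * x2 * g⁻¹ = x2 ∧ g * (x2 * x2) * g⁻¹ = x2 * x2) ∨ (g * x2 * g⁻¹ = x2 * x2 ∧ g * (x2 * x2) * g⁻¹ = x2)) ∧
      g * t1 * g⁻¹ = t1) ∨
    (((g * x1 * g⁻¹ = x2 ∧ g * (x1 * x1) * g⁻¹ = x2 * x2) ∨ (g * x1 * g⁻¹ = x2 * x2 ∧ g * (x1 * x1) * g⁻¹ = x2)) ∧
      ((g * x2 * g⁻¹ = x1 ∧ g * (x2 * x2) * g⁻¹ = x1 * x1) ∨ (g * x2 * g⁻¹ = x1 * x1 ∧ g * (x2 * x2) * g⁻¹ = x1)) ∧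
      g * t1 * g⁻¹ ≠ t1) := by
  have h : g 0 = 0 := RR_zero hg
  have h2 := RR_conj hg
  clear hg
  revert g
  decide +kernel

/-- the permutation of the two duads induced by an element of `R` -/
def sg (g : P5) : Perm (Fin 2) := if g * t1 * g⁻¹ = t1 then 1 else swap 0 1

theorem t12 : t1 ≠ t2 := by decide

theorem sg_mul {g h : P5} (hg : g ∈ RR) (hh : h ∈ RR) : sg (g * h) = sg g * sg h := by
  have e : g * h * t1 * (g * h)⁻¹ = g * (h * t1 * h⁻¹) * g⁻¹ := by group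
  unfold sg
  rw [e]
  rcases RR_conj hh with ⟨h1, h2⟩ | ⟨h1, h2⟩
  · rw [h1, if_pos rfl, mul_one]
  · rw [h1, if_neg t12.symm]
    rcases RR_conj hg with ⟨h3, h4⟩ | ⟨h3, h4⟩
    · rw [h3, h4, if_neg t12.symm, if_pos rfl, one_mul]
    · rw [h3, h4, if_pos rfl, if_neg t12.symm, swap_mul_self]

section act

variable {A ι : Type*} [AddCommGroup A] [DecidableEq ι] [DistribMulAction (ι → P5) A]

/-- the action of the `l`-th factor -/
@[reducible] def act (A : Type*) {ι : Type*} [AddCommGroup A] [DecidableEq ι] [DistribMulAction (ι → P5) A] (l : ι) :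
    DistribMulAction P5 A :=
  DistribMulAction.compHom A (MonoidHom.mulSingle (fun _ : ι => P5) l)

/-- the element `g` of the `l`-th factor -/
def ms (l : ι) (g : P5) : ι → P5 := Pi.mulSingle l g

def gFJ (l : ι) (a : A) : Prop := @FJ A _ (act A l) a
def gFR (l : ι) (a : A) : Prop := @FR A _ (act A l) a
def gF0 (l : ι) (a : A) : Prop := @F0 A _ (act A l) a
def gFG (l : ι) (a : A) : Prop := @FG A _ (act A l) a
def gtr (l : ι) : A →+ A := @tr A _ (act A l)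
def gtr0 (l : ι) : A →+ A := @tr0 A _ (act A l)
def gtr5 (l : ι) : A →+ A := @tr5 A _ (act A l)
def gpi (l : ι) (i : Fin 2) : A →+ A := if i = 0 then @pi1 A _ (act A l) else @pi2 A _ (act A l)

theorem gFJ_iff {l : ι} {a : A} : gFJ l a ↔ ms l t1 • a = a ∧ ms l t2 • a = a := Iff.rfl
theorem gFR_iff {l : ι} {a : A} : gFR l a ↔ ms l t1 • a = a ∧ ms l s0 • a = a := Iff.rfl
theorem gF0_iff {l : ι} {a : A} : gF0 l a ↔ ∀ g : P5, g 0 = 0 → ms l g • a = a := Iff.rfl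
theorem gFG_iff {l : ι} {a : A} : gFG l a ↔ ∀ g : P5, ms l g • a = a := Iff.rfl
theorem gtr0_apply (l : ι) (a : A) : gtr0 l a = a + ms l r3 • a + ms l (r3 * r3) • a := rfl
theorem gtr5_apply (l : ι) (a : A) : gtr5 l a = ∑ p : Fin 5, ms l (swap 0 p) • a := rfl
theorem gtr_apply (l : ι) (a : A) : gtr l a = gtr5 l (gtr0 l a) := rfl
theorem gpi0_apply (l : ι) (a : A) : gpi l 0 a = ms l x1 • a + ms l (x1 * x1) • a := rfl
theorem gpi1_apply (l : ι) (a : A) : gpi l 1 a = ms l x2 • a + ms l (x2 * x2) • a := rfl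

theorem ms_mul (l : ι) (g h : P5) : ms l (g * h) = ms l g * ms l h := Pi.mulSingle_mul _ _ _
theorem ms_one (l : ι) : ms l (1 : P5) = 1 := Pi.mulSingle_one _
omit [AddCommGroup A] [DistribMulAction (ι → P5) A] in
theorem ms_comm {l m : ι} (h : l ≠ m) (g g' : P5) : ms l g * ms m g' = ms m g' * ms l g := by
  funext i
  by_cases hi : i = l
  · subst hi
    rw [Pi.mul_apply, Pi.mul_apply, ms, ms, Pi.mulSingle_eq_same, Pi.mulSingle_eq_of_ne h, one_mul, mul_one]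
  · rw [Pi.mul_apply, Pi.mul_apply, ms, ms, Pi.mulSingle_eq_of_ne hi, one_mul, mul_one]

theorem ms_smul_comm {l m : ι} (h : l ≠ m) (g g' : P5) (a : A) : ms l g • ms m g' • a = ms m g' • ms l g • a := by
  rw [← mul_smul, ms_comm h, mul_smul]

/-- `gFR` for all elements of `R` -/
theorem gFR.mem {l : ι} {a : A} (h : gFR l a) {g : P5} (hg : g ∈ RR) : ms l g • a = a := by
  induction hg using Subgroup.closure_induction with
  | mem x hx =>
    rcases hx with rfl | rfl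
    · exact h.1
    · exact h.2
  | one => rw [ms_one, one_smul]
  | mul x y _ _ hx hy => rw [ms_mul, mul_smul, hy, hx]
  | inv x _ hx =>
    conv_lhs => rw [← hx]
    rw [← mul_smul, ← ms_mul, inv_mul_cancel, ms_one, one_smul]

theorem gFR.fj {l : ι} {a : A} (h : gFR l a) : gFJ l a := @FR.fj A _ (act A l) a h
theorem gF0.fr {l : ι} {a : A} (h : gF0 l a) : gFR l a := @F0.fr A _ (act A l) a h
theorem gFG.f0 {l : ι} {a : A} (h : gFG l a) : gF0 l a := fun g _ => h g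
theorem gFG.fr {l : ι} {a : A} (h : gFG l a) : gFR l a := h.f0.fr
theorem gFG.fj {l : ι} {a : A} (h : gFG l a) : gFJ l a := h.fr.fj
theorem gtr0_f0 {l : ι} {a : A} (h : gFR l a) : gF0 l (gtr0 l a) := @tr0_f0 A _ (act A l) a h
theorem gtr_fg {l : ι} {a : A} (h : gFR l a) : gFG l (gtr l a) := @tr_fg A _ (act A l) a h
theorem gtr0_of {l : ι} {a : A} (two : ∀ a : A, a + a = 0) (h : gF0 l a) : gtr0 l a = a :=
  @tr0_of A _ (act A l) a two h
theorem gtr5_of {l : ι} {a : A} (two : ∀ a : A, a + a = 0) (h : gFG l a) : gtr5 l a = a :=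
  @tr5_of A _ (act A l) a two h
theorem gtr_of {l : ι} {a : A} (two : ∀ a : A, a + a = 0) (h : gFG l a) : gtr l a = a :=
  @tr_of A _ (act A l) a two h

theorem gFR.add {l : ι} {a b : A} (h : gFR l a) (h' : gFR l b) : gFR l (a + b) :=
  gFR_iff.2 ⟨by rw [smul_add, (gFR_iff.1 h).1, (gFR_iff.1 h').1], by rw [smul_add, (gFR_iff.1 h).2, (gFR_iff.1 h').2]⟩
theorem gFJ.add {l : ι} {a b : A} (h : gFJ l a) (h' : gFJ l b) : gFJ l (a + b) :=
  gFJ_iff.2 ⟨by rw [smul_add, (gFJ_iff.1 h).1, (gFJ_iff.1 h').1], by rw [smul_add, (gFJ_iff.1 h).2, (gFJ_iff.1 h').2]⟩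
theorem gFG.add {l : ι} {a b : A} (h : gFG l a) (h' : gFG l b) : gFG l (a + b) :=
  gFG_iff.2 fun g => by rw [smul_add, gFG_iff.1 h, gFG_iff.1 h']
theorem gF0.add {l : ι} {a b : A} (h : gF0 l a) (h' : gF0 l b) : gF0 l (a + b) :=
  gF0_iff.2 fun g hg => by rw [smul_add, gF0_iff.1 h g hg, gF0_iff.1 h' g hg]

/-- an additive map commuting with the `l`-th factor preserves its fixed points etc. -/
theorem gFR.map {l : ι} {φ : A → A} (hφ : ∀ g (a : A), φ (ms l g • a) = ms l g • φ a) {a : A} (h : gFR l a) :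
    gFR l (φ a) := gFR_iff.2 ⟨by rw [← hφ, (gFR_iff.1 h).1], by rw [← hφ, (gFR_iff.1 h).2]⟩
theorem gFJ.map {l : ι} {φ : A → A} (hφ : ∀ g (a : A), φ (ms l g • a) = ms l g • φ a) {a : A} (h : gFJ l a) :
    gFJ l (φ a) := gFJ_iff.2 ⟨by rw [← hφ, (gFJ_iff.1 h).1], by rw [← hφ, (gFJ_iff.1 h).2]⟩
theorem gFG.map {l : ι} {φ : A → A} (hφ : ∀ g (a : A), φ (ms l g • a) = ms l g • φ a) {a : A} (h : gFG l a) :
    gFG l (φ a) := gFG_iff.2 fun g => by rw [← hφ, gFG_iff.1 h]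
theorem gF0.map {l : ι} {φ : A → A} (hφ : ∀ g (a : A), φ (ms l g • a) = ms l g • φ a) {a : A} (h : gF0 l a) :
    gF0 l (φ a) := gF0_iff.2 fun g hg => by rw [← hφ, gF0_iff.1 h g hg]

theorem gtr0_comm {l : ι} (φ : A →+ A) (hφ : ∀ g (a : A), φ (ms l g • a) = ms l g • φ a) (a : A) :
    φ (gtr0 l a) = gtr0 l (φ a) := by
  rw [gtr0_apply, gtr0_apply, map_add, map_add, hφ, hφ]

theorem gtr5_comm {l : ι} (φ : A →+ A) (hφ : ∀ g (a : A), φ (ms l g • a) = ms l g • φ a) (a : A) :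
    φ (gtr5 l a) = gtr5 l (φ a) := by
  rw [gtr5_apply, gtr5_apply, map_sum]
  exact Finset.sum_congr rfl fun p _ => hφ _ _

theorem gtr_comm {l : ι} (φ : A →+ A) (hφ : ∀ g (a : A), φ (ms l g • a) = ms l g • φ a) (a : A) :
    φ (gtr l a) = gtr l (φ a) := by
  rw [gtr_apply, gtr_apply, gtr5_comm φ hφ, gtr0_comm φ hφ]

theorem gpi_comm {l : ι} (φ : A →+ A) (hφ : ∀ g (a : A), φ (ms l g • a) = ms l g • φ a) (i : Fin 2) (a : A) :
    φ (gpi l i a) = gpi l i (φ a) := by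
  fin_cases i
  · change φ (ms l x1 • a + ms l (x1 * x1) • a) = ms l x1 • φ a + ms l (x1 * x1) • φ a
    rw [map_add, hφ, hφ]
  · change φ (ms l x2 • a + ms l (x2 * x2) • a) = ms l x2 • φ a + ms l (x2 * x2) • φ a
    rw [map_add, hφ, hφ]

theorem ms_gtr {l m : ι} (h : l ≠ m) (g : P5) (a : A) : ms m g • gtr l a = gtr l (ms m g • a) :=
  gtr_comm (DistribSMul.toAddMonoidHom A (ms m g)) (fun g' a => ms_smul_comm h.symm g g' a) a

theorem ms_gtr0 {l m : ι} (h : l ≠ m) (g : P5) (a : A) : ms m g • gtr0 l a = gtr0 l (ms m g • a) :=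
  gtr0_comm (DistribSMul.toAddMonoidHom A (ms m g)) (fun g' a => ms_smul_comm h.symm g g' a) a

theorem ms_gpi {l m : ι} (h : l ≠ m) (g : P5) (i : Fin 2) (a : A) : ms m g • gpi l i a = gpi l i (ms m g • a) :=
  gpi_comm (DistribSMul.toAddMonoidHom A (ms m g)) (fun g' a => ms_smul_comm h.symm g g' a) i a

theorem gtr_gtr {l m : ι} (a : A) : gtr l (gtr m a) = gtr m (gtr l a) := by
  by_cases h : l = m
  · subst h; rfl
  · exact gtr_comm (gtr l) (fun g a => (ms_gtr h g a).symm) a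

theorem gpi_gpi {l m : ι} (h : l ≠ m) (i j : Fin 2) (a : A) : gpi l i (gpi m j a) = gpi m j (gpi l i a) :=
  gpi_comm (gpi l i) (fun g a => (ms_gpi h g i a).symm) j a

end act

end Cfsg.Agent.Omega.IId.SymTwo5
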