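import Mathlib

/-!
# `Sym(5)`-modules over `F₂`: transfers and the halving lemma (bb OMEGA 18061, (A2), (A3), (B5))

`Perm (Fin 5)` acts on the elementary abelian 2-group `A`.  `t₁ = (12)`, `t₂ = (34)`, `s₀ = (13)(24)`, `J = ⟨t₁,t₂⟩`,
`R = ⟨t₁,t₂,s₀⟩` (the Sylow 2-subgroup of the stabiliser of `0`), `x₁ = (0 1 2)`, `x₂ = (0 3 4)`.

* `tr` : the transfer from `R` to `Perm (Fin 5)`; `tr0` : from `R` to the stabiliser of `0`;
* `halving` : if every `R`-fixed vector is fixed by the stabiliser of `0`, then the `J`-fixed vectors are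
  `φ + (a₁ + a₂) + (b₃ + b₄)`;
* `kill` : (B5).
-/

set_option autoImplicit false

namespace Cfsg.Agent.Omega.IId.SymTwo5.Five

open Equiv

abbrev P5 := Perm (Fin 5)

def t1 : P5 := swap 1 2
def t2 : P5 := swap 3 4
def s0 : P5 := swap 1 3 * swap 2 4
def r3 : P5 := swap 1 2 * swap 2 3
def x1 : P5 := swap 0 1 * swap 1 2
def x2 : P5 := swap 0 3 * swap 3 4

variable {A : Type*} [AddCommGroup A] [DistribMulAction P5 A]

/-- fixed by `J` -/
def FJ (a : A) : Prop := t1 • a = a ∧ t2 • a = a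

/-- fixed by `R` -/
def FR (a : A) : Prop := t1 • a = a ∧ s0 • a = a

/-- fixed by the stabiliser of `0` -/
def F0 (a : A) : Prop := ∀ g : P5, g 0 = 0 → g • a = a

/-- fixed by everything -/
def FG (a : A) : Prop := ∀ g : P5, g • a = a

theorem FG.f0 {a : A} (h : FG a) : F0 a := fun g _ => h g

theorem F0.fr {a : A} (h : F0 a) : FR a := ⟨h t1 (by decide), h s0 (by decide)⟩

theorem FR.t2 {a : A} (h : FR a) : Five.t2 • a = a := by
  have e : Five.t2 = s0 * t1 * s0 := by decide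
  rw [e, mul_smul, mul_smul, h.2, h.1, h.2]

theorem FR.fj {a : A} (h : FR a) : FJ a := ⟨h.1, h.t2⟩

theorem FG.fj {a : A} (h : FG a) : FJ a := ⟨h _, h _⟩

/-! ### Generation -/

theorem fg_of_swap {a : A} (h : ∀ i : Fin 5, (swap 0 i : P5) • a = a) : FG a := by
  have h2 : ∀ i j : Fin 5, (swap i j : P5) • a = a := by
    intro i j
    by_cases hij : i = j
    · subst hij
      rw [swap_self]
      exact one_smul P5 a
    · by_cases hi : i = 0
      · subst hi; exact h j
      · by_cases hj : j = 0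
        · subst hj; rw [swap_comm]; exact h i
        · have e : swap i j = swap 0 i * swap 0 j * swap 0 i := by
            revert i j
            decide
          rw [e, mul_smul, mul_smul, h, h, h]
  intro g
  have hg : g ∈ MulAction.stabilizer P5 a := by
    have : (⊤ : Subgroup P5) ≤ MulAction.stabilizer P5 a := by
      rw [← Perm.closure_isSwap, Subgroup.closure_le]
      rintro _ ⟨i, j, -, rfl⟩
      exact h2 i j
    exact this trivial
  exact hg

theorem stab_words : ∀ g : P5, g 0 = 0 → ∃ a : Fin 3, ∃ b : Fin 2, ∃ c : Fin 2, ∃ d : Fin 2,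
    g = r3 ^ (a : ℕ) * t1 ^ (b : ℕ) * t2 ^ (c : ℕ) * s0 ^ (d : ℕ) := by
  decide +kernel

theorem f0_of {a : A} (h : FR a) (h3 : r3 • a = a) : F0 a := by
  intro g hg
  obtain ⟨i, j, k, l, rfl⟩ := stab_words g hg
  have hp : ∀ (x : P5), x • a = a → ∀ n : ℕ, x ^ n • a = a := by
    intro x hx n
    induction n with
    | zero => rw [pow_zero, one_smul]
    | succ n ih => rw [pow_succ, mul_smul, hx, ih]
  rw [mul_smul, mul_smul, mul_smul, hp _ h.2, hp _ h.t2, hp _ h.1, hp _ h3]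

/-! ### Transfers -/

/-- the transfer from `R` to the stabiliser of `0` -/
def tr0 (A : Type*) [AddCommGroup A] [DistribMulAction P5 A] : A →+ A where
  toFun a := a + r3 • a + (r3 * r3) • a
  map_zero' := by simp
  map_add' a b := by simp only [smul_add]; abel

/-- the transfer from the stabiliser of `0` to everything -/
def tr5 (A : Type*) [AddCommGroup A] [DistribMulAction P5 A] : A →+ A where
  toFun a := ∑ p : Fin 5, swap 0 p • a
  map_zero' := by simp
  map_add' a b := by simp only [smul_add, Finset.sum_add_distrib]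

/-- the transfer from `R` to everything -/
def tr (A : Type*) [AddCommGroup A] [DistribMulAction P5 A] : A →+ A := (tr5 A).comp (tr0 A)

theorem tr0_apply (a : A) : tr0 A a = a + r3 • a + (r3 * r3) • a := rfl

theorem tr5_apply (a : A) : tr5 A a = ∑ p : Fin 5, swap 0 p • a := rfl

theorem tr_apply (a : A) : tr A a = tr5 A (tr0 A a) := rfl

theorem tr0_f0 {a : A} (h : FR a) : F0 (tr0 A a) := by
  have hs : ∀ g : P5, FR a → ∀ (b : Fin 3) (c d e : Fin 2),
      (g * (t1 ^ (c : ℕ) * t2 ^ (d : ℕ) * s0 ^ (e : ℕ))) • a = g • a := by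
    intro g h b c d e
    have hp : ∀ (x : P5), x • a = a → ∀ n : ℕ, x ^ n • a = a := by
      intro x hx n
      induction n with
      | zero => rw [pow_zero, one_smul]
      | succ n ih => rw [pow_succ, mul_smul, hx, ih]
    rw [mul_smul, mul_smul, mul_smul, hp _ h.2, hp _ h.t2, hp _ h.1]
  refine f0_of ⟨?_, ?_⟩ ?_
  · rw [tr0_apply, smul_add, smul_add, h.1, ← mul_smul, ← mul_smul]
    obtain ⟨c, d, e, h1⟩ : ∃ c d e : Fin 2, t1 * r3 = (r3 * r3) * (t1 ^ (c : ℕ) * t2 ^ (d : ℕ) * s0 ^ (e : ℕ)) := by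
      decide
    obtain ⟨c', d', e', h2⟩ : ∃ c d e : Fin 2, t1 * (r3 * r3) = r3 * (t1 ^ (c : ℕ) * t2 ^ (d : ℕ) * s0 ^ (e : ℕ)) := by
      decide
    rw [h1, h2, hs _ h 0, hs _ h 0]
    abel
  · rw [tr0_apply, smul_add, smul_add, h.2, ← mul_smul, ← mul_smul]
    obtain ⟨b, b', hb, c, d, e, h1, c', d', e', h2⟩ : ∃ b b' : Fin 3, ((b = 1 ∧ b' = 2) ∨ (b = 2 ∧ b' = 1)) ∧
        ∃ c d e : Fin 2, s0 * r3 = r3 ^ (b : ℕ) * (t1 ^ (c : ℕ) * t2 ^ (d : ℕ) * s0 ^ (e : ℕ)) ∧
        ∃ c' d' e' : Fin 2, s0 * (r3 * r3) = r3 ^ (b' : ℕ) * (t1 ^ (c' : ℕ) * t2 ^ (d' : ℕ) * s0 ^ (e' : ℕ)) := by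
      decide +kernel
    rw [h1, h2, hs _ h 0, hs _ h 0]
    rcases hb with ⟨rfl, rfl⟩ | ⟨rfl, rfl⟩
    · change a + r3 ^ 1 • a + r3 ^ 2 • a = _
      rw [pow_one, pow_two]
    · change a + r3 ^ 2 • a + r3 ^ 1 • a = _
      rw [pow_one, pow_two]
      abel
  · rw [tr0_apply, smul_add, smul_add, ← mul_smul, ← mul_smul]
    have e : r3 * (r3 * r3) = 1 := by decide
    rw [e, one_smul]
    abel

/-- conjugates of an `F0`-vector -/
theorem F0.smul {a : A} (h : F0 a) (g : P5) (p : Fin 5) : g • swap 0 p • a = swap 0 (g p) • a := by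
  have h1 : (swap 0 (g p) * g * swap 0 p) • a = a := h _ (by
    rw [Perm.mul_apply, Perm.mul_apply, swap_apply_left, swap_apply_right])
  have h2 : swap 0 (g p) • (swap 0 (g p) * g * swap 0 p) • a = g • swap 0 p • a := by
    rw [← mul_smul, ← mul_smul, ← mul_assoc, ← mul_assoc, swap_mul_self, one_mul]
  rw [← h2, h1]

theorem tr5_fg {a : A} (h : F0 a) : FG (tr5 A a) := by
  intro g
  rw [tr5_apply, Finset.smul_sum]
  simp only [h.smul]
  exact Equiv.sum_comp g fun p => swap 0 p • a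

theorem tr_fg {a : A} (h : FR a) : FG (tr A a) := tr5_fg (tr0_f0 h)

theorem tr0_of {a : A} (two : ∀ a : A, a + a = 0) (h : F0 a) : tr0 A a = a := by
  rw [tr0_apply, h _ (by decide), h _ (by decide), two, zero_add]

theorem tr5_of {a : A} (two : ∀ a : A, a + a = 0) (h : FG a) : tr5 A a = a := by
  rw [tr5_apply, Finset.sum_congr rfl fun p _ => h _]
  simp only [Fin.sum_univ_five, two, zero_add]

theorem tr_of {a : A} (two : ∀ a : A, a + a = 0) (h : FG a) : tr A a = a := by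
  rw [tr_apply, tr0_of two h.f0, tr5_of two h]

theorem tr5_five (a : A) : tr5 A a = a + (swap 0 1 : P5) • a + (swap 0 2 : P5) • a + (swap 0 3 : P5) • a +
    (swap 0 4 : P5) • a := by
  rw [tr5_apply, Fin.sum_univ_five, swap_self]
  have : (Equiv.refl (Fin 5) : P5) • a = a := one_smul P5 a
  rw [this]

end Cfsg.Agent.Omega.IId.SymTwo5.Five
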