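import Cfsg.Agent.Omega.IId.SymTwo5.Five

/-!
# The halving lemma for `Sym(5)` (bb OMEGA 18061, (A3)), and (B5)
-/

set_option autoImplicit false

namespace Cfsg.Agent.Omega.IId.SymTwo5.Five

open Equiv

variable {A : Type*} [AddCommGroup A] [DistribMulAction P5 A]

/-! ### Double counting -/

/-- a normal form modulo `J` -/
def nf (g : P5) : P5 :=
  (if g 3 ≤ g 4 then (if g 1 ≤ g 2 then g else g * t1) else (if g 1 ≤ g 2 then g * t2 else g * t1 * t2))

theorem nf_smul {a : A} (h : FJ a) (g : P5) : nf g • a = g • a := by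
  unfold nf
  split_ifs
  · rfl
  · rw [mul_smul, h.1]
  · rw [mul_smul, h.2]
  · rw [mul_smul, mul_smul, h.2, h.1]

def L15 : List P5 := [swap 0 0, swap 0 1, swap 0 2, swap 0 3, swap 0 4].flatMap fun g => [g, g * r3, g * (r3 * r3)]

def L10 : List P5 := [1, swap 0 2, swap 0 1, swap 2 3, swap 2 4, swap 1 3, swap 1 4, swap 0 1 * swap 2 3,
  swap 0 1 * swap 2 4, swap 1 3 * swap 2 4]

omit [DistribMulAction P5 A] in
theorem sum_map_flatMap_two (L : List P5) (u v : P5 → P5) (f : P5 → A) :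
    ((L.flatMap fun g => [u g, v g]).map f).sum = (L.map fun g => f (u g) + f (v g)).sum := by
  induction L with
  | nil => rfl
  | cons g L ih => simp [ih, add_assoc]

omit [DistribMulAction P5 A] in
theorem sum_map_flatMap_three (L : List P5) (u v w : P5 → P5) (f : P5 → A) :
    ((L.flatMap fun g => [u g, v g, w g]).map f).sum = (L.map fun g => f (u g) + f (v g) + f (w g)).sum := by
  induction L with
  | nil => rfl
  | cons g L ih => simp [ih, add_assoc]

theorem perm30 : (L15.flatMap fun g => [nf g, nf (g * s0)]).Perm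
    (L10.flatMap fun g => [nf g, nf (g * x2), nf (g * (x2 * x2))]) := by
  decide +kernel

/-- `Tr` over the 30 cosets of `J`, computed in two ways -/
theorem dc (two : ∀ a : A, a + a = 0) {c φ : A} (hc : FJ c) (h3 : c + x2 • c + (x2 * x2) • c = 0)
    (h2 : c + s0 • c = φ) (hφ : FG φ) : φ = 0 := by
  have h := (perm30.map fun g : P5 => g • c).sum_eq
  rw [sum_map_flatMap_two, sum_map_flatMap_three] at h
  have e1 : (fun g : P5 => nf g • c + nf (g * s0) • c) = fun _ => φ := by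
    funext g
    rw [nf_smul hc, nf_smul hc, mul_smul, ← smul_add, h2]
    exact hφ g
  have e2 : (fun g : P5 => nf g • c + nf (g * x2) • c + nf (g * (x2 * x2)) • c) = fun _ => 0 := by
    funext g
    rw [nf_smul hc, nf_smul hc, nf_smul hc, mul_smul, mul_smul g, ← smul_add, ← smul_add, h3, smul_zero]
  rw [e1, e2] at h
  simp only [L15, L10, List.flatMap_cons, List.flatMap_nil, List.map_append, List.map_cons, List.map_nil,
    List.sum_append, List.sum_cons, List.sum_nil, add_zero, two] at h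
  exact h

/-! ### Halving -/

/-- `π₁ = x₁ + x₁²` -/
def pi1 (A : Type*) [AddCommGroup A] [DistribMulAction P5 A] : A →+ A where
  toFun a := x1 • a + (x1 * x1) • a
  map_zero' := by simp
  map_add' a b := by simp only [smul_add]; abel

/-- `π₂ = x₂ + x₂²` -/
def pi2 (A : Type*) [AddCommGroup A] [DistribMulAction P5 A] : A →+ A where
  toFun a := x2 • a + (x2 * x2) • a
  map_zero' := by simp
  map_add' a b := by simp only [smul_add]; abel

theorem pi1_apply (a : A) : pi1 A a = x1 • a + (x1 * x1) • a := rfl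

theorem pi2_apply (a : A) : pi2 A a = x2 • a + (x2 * x2) • a := rfl

/-- `a ↦ a_i + a_j` -/
def du (a : A) (i j : Fin 5) : A := (swap 0 i : P5) • a + (swap 0 j : P5) • a

theorem F0.du_smul {a : A} (h : F0 a) (g : P5) (i j : Fin 5) : g • du a i j = du a (g i) (g j) := by
  rw [du, smul_add, h.smul, h.smul]
  rfl

theorem du_comm (a : A) (i j : Fin 5) : du a i j = du a j i := add_comm _ _

theorem du_add (a b : A) (i j : Fin 5) : du (a + b) i j = du a i j + du b i j := by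
  simp only [du, smul_add]
  abel

theorem F0.sum {a : A} (two : ∀ a : A, a + a = 0) (h5 : tr5 A a = 0) : a = du a 1 2 + du a 3 4 := by
  have h := tr5_five a
  rw [h5] at h
  have h2 : a + (du a 1 2 + du a 3 4) = 0 := by
    rw [h]
    simp only [du]
    abel
  have h6 : a + a = a + (du a 1 2 + du a 3 4) := by rw [two, h2]
  exact add_left_cancel h6

theorem F0.pi1_du {a : A} (two : ∀ a : A, a + a = 0) (h : F0 a) : pi1 A (du a 1 2) = du a 1 2 := by
  rw [pi1_apply, h.du_smul, h.du_smul]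
  have e : (x1 1 = 2 ∧ x1 2 = 0 ∧ (x1 * x1) 1 = 0 ∧ (x1 * x1) 2 = 1) ∨
      (x1 1 = 0 ∧ x1 2 = 1 ∧ (x1 * x1) 1 = 2 ∧ (x1 * x1) 2 = 0) := by decide
  rcases e with ⟨e1, e2, e3, e4⟩ | ⟨e1, e2, e3, e4⟩
  · rw [e1, e2, e3, e4]
    simp only [du]
    have := two ((swap 0 0 : P5) • a)
    calc (swap 0 2 : P5) • a + (swap 0 0 : P5) • a + ((swap 0 0 : P5) • a + (swap 0 1 : P5) • a)
        = (swap 0 1 : P5) • a + (swap 0 2 : P5) • a + ((swap 0 0 : P5) • a + (swap 0 0 : P5) • a) := by abel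
      _ = _ := by rw [this, add_zero]
  · rw [e1, e2, e3, e4]
    simp only [du]
    have := two ((swap 0 0 : P5) • a)
    calc (swap 0 0 : P5) • a + (swap 0 1 : P5) • a + ((swap 0 2 : P5) • a + (swap 0 0 : P5) • a)
        = (swap 0 1 : P5) • a + (swap 0 2 : P5) • a + ((swap 0 0 : P5) • a + (swap 0 0 : P5) • a) := by abel
      _ = _ := by rw [this, add_zero]

theorem F0.pi1_du' {a : A} (two : ∀ a : A, a + a = 0) (h : F0 a) : pi1 A (du a 3 4) = 0 := by
  rw [pi1_apply, h.du_smul, h.du_smul]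
  have e : x1 3 = 3 ∧ x1 4 = 4 ∧ (x1 * x1) 3 = 3 ∧ (x1 * x1) 4 = 4 := by decide
  rw [e.1, e.2.1, e.2.2.1, e.2.2.2, two]

theorem F0.pi2_du {a : A} (two : ∀ a : A, a + a = 0) (h : F0 a) : pi2 A (du a 3 4) = du a 3 4 := by
  rw [pi2_apply, h.du_smul, h.du_smul]
  have e : (x2 3 = 4 ∧ x2 4 = 0 ∧ (x2 * x2) 3 = 0 ∧ (x2 * x2) 4 = 3) ∨
      (x2 3 = 0 ∧ x2 4 = 3 ∧ (x2 * x2) 3 = 4 ∧ (x2 * x2) 4 = 0) := by decide
  rcases e with ⟨e1, e2, e3, e4⟩ | ⟨e1, e2, e3, e4⟩
  · rw [e1, e2, e3, e4]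
    simp only [du]
    have := two ((swap 0 0 : P5) • a)
    calc (swap 0 4 : P5) • a + (swap 0 0 : P5) • a + ((swap 0 0 : P5) • a + (swap 0 3 : P5) • a)
        = (swap 0 3 : P5) • a + (swap 0 4 : P5) • a + ((swap 0 0 : P5) • a + (swap 0 0 : P5) • a) := by abel
      _ = _ := by rw [this, add_zero]
  · rw [e1, e2, e3, e4]
    simp only [du]
    have := two ((swap 0 0 : P5) • a)
    calc (swap 0 0 : P5) • a + (swap 0 3 : P5) • a + ((swap 0 4 : P5) • a + (swap 0 0 : P5) • a)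
        = (swap 0 3 : P5) • a + (swap 0 4 : P5) • a + ((swap 0 0 : P5) • a + (swap 0 0 : P5) • a) := by abel
      _ = _ := by rw [this, add_zero]

theorem F0.pi2_du' {a : A} (two : ∀ a : A, a + a = 0) (h : F0 a) : pi2 A (du a 1 2) = 0 := by
  rw [pi2_apply, h.du_smul, h.du_smul]
  have e : x2 1 = 1 ∧ x2 2 = 2 ∧ (x2 * x2) 1 = 1 ∧ (x2 * x2) 2 = 2 := by decide
  rw [e.1, e.2.1, e.2.2.1, e.2.2.2, two]

theorem FG.pi1 {a : A} (two : ∀ a : A, a + a = 0) (h : FG a) : Five.pi1 A a = 0 := by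
  rw [pi1_apply, h, h, two]

theorem FG.pi2 {a : A} (two : ∀ a : A, a + a = 0) (h : FG a) : Five.pi2 A a = 0 := by
  rw [pi2_apply, h, h, two]

theorem FG.add {a b : A} (h : FG a) (h' : FG b) : FG (a + b) := fun g => by rw [smul_add, h, h']

theorem F0.add {a b : A} (h : F0 a) (h' : F0 b) : F0 (a + b) := fun g hg => by rw [smul_add, h g hg, h' g hg]

theorem FJ.add {a b : A} (h : FJ a) (h' : FJ b) : FJ (a + b) :=
  ⟨by rw [smul_add, h.1, h'.1], by rw [smul_add, h.2, h'.2]⟩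

theorem F0.du_fj {a : A} (h : F0 a) : FJ (du a 1 2) := by
  constructor
  · rw [h.du_smul]
    have e : t1 1 = 2 ∧ t1 2 = 1 := by decide
    rw [e.1, e.2, du_comm]
  · rw [h.du_smul]
    have e : t2 1 = 1 ∧ t2 2 = 2 := by decide
    rw [e.1, e.2]

theorem F0.du_fj' {a : A} (h : F0 a) : FJ (du a 3 4) := by
  constructor
  · rw [h.du_smul]
    have e : t1 3 = 3 ∧ t1 4 = 4 := by decide
    rw [e.1, e.2]
  · rw [h.du_smul]
    have e : t2 3 = 4 ∧ t2 4 = 3 := by decide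
    rw [e.1, e.2, du_comm]

theorem F0.s_du {a : A} (h : F0 a) : s0 • du a 1 2 = du a 3 4 := by
  rw [h.du_smul]
  have e : s0 1 = 3 ∧ s0 2 = 4 := by decide
  rw [e.1, e.2]

theorem F0.s_du' {a : A} (h : F0 a) : s0 • du a 3 4 = du a 1 2 := by
  rw [h.du_smul]
  have e : s0 3 = 1 ∧ s0 4 = 2 := by decide
  rw [e.1, e.2]

theorem s_s (a : A) : s0 • s0 • a = a := by
  rw [← mul_smul]
  have e : s0 * s0 = 1 := by decide
  rw [e, one_smul]

theorem fr_of_fj {c : A} (hc : FJ c) : FR (c + s0 • c) := by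
  constructor
  · rw [smul_add, hc.1, ← mul_smul]
    have e : t1 * s0 = s0 * t2 := by decide
    rw [e, mul_smul, hc.2]
  · rw [smul_add, s_s, add_comm]

omit [DistribMulAction P5 A] in
theorem add_eq {a b c : A} (two : ∀ a : A, a + a = 0) (h : a + b = c) : b = a + c := by
  rw [← h, ← add_assoc, two, zero_add]

/-- every vector fixed by `R` is `φ + y`, `φ` fixed by everything, `y` of trace zero; step used twice -/
theorem split (two : ∀ a : A, a + a = 0) {M : AddSubgroup A} (hM : ∀ g : P5, ∀ a ∈ M, g • a ∈ M)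
    (Q : ∀ a ∈ M, FR a → F0 a) {c : A} (hcM : c ∈ M) (hc : FJ c) :
    ∃ φ y : A, FG φ ∧ φ ∈ M ∧ y ∈ M ∧ F0 y ∧ tr5 A y = 0 ∧ c + s0 • c = φ + y ∧
      (c + du y 1 2) + s0 • (c + du y 1 2) = φ := by
  have hF := Q _ (add_mem hcM (hM s0 c hcM)) (fr_of_fj hc)
  set a := c + s0 • c with ha
  have haM : a ∈ M := add_mem hcM (hM s0 c hcM)
  have hφ := tr5_fg hF
  have hφM : tr5 A a ∈ M := by
    rw [tr5_apply]
    exact sum_mem fun p _ => hM _ _ haM
  refine ⟨tr5 A a, a + tr5 A a, hφ, hφM, add_mem haM hφM, hF.add hφ.f0, ?_, ?_, ?_⟩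
  · rw [map_add, tr5_of two hφ, two]
  · rw [add_comm a, ← add_assoc, two, zero_add]
  · set y := a + tr5 A a with hy
    have hy0 : F0 y := hF.add hφ.f0
    have hy5 : tr5 A y = 0 := by rw [hy, map_add, tr5_of two hφ, two]
    rw [smul_add, hy0.s_du]
    have e1 : c + du y 1 2 + (s0 • c + du y 3 4) = (c + s0 • c) + (du y 1 2 + du y 3 4) := by abel
    rw [e1, ← ha, ← F0.sum two hy5, hy, ← add_assoc, two, zero_add]

/-- (i): a vector fixed by `H = Sym{1,2} × Sym{0,3,4}` with `k + k^s = φ` fixed by everything is fixed by everything -/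
theorem fixedH (two : ∀ a : A, a + a = 0) {k φ : A} (hk : FJ k) (hx : x2 • k = k) (h : k + s0 • k = φ) (hφ : FG φ) :
    FG k ∧ φ = 0 := by
  have h2 := add_eq two h
  have h03 : (swap 0 3 : P5) • k = k := by
    have e : (swap 0 3 : P5) = x2 * t2 := by decide
    rw [e, mul_smul, hk.2, hx]
  have h04 : (swap 0 4 : P5) • k = k := by
    have e : (swap 0 4 : P5) = t2 * swap 0 3 * t2 := by decide
    rw [e, mul_smul, mul_smul, hk.2, h03, hk.2]
  have h02 : (swap 0 2 : P5) • k = k := by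
    have e : (swap 0 2 : P5) * s0 = s0 * swap 0 4 := by decide
    have h3 : (swap 0 2 : P5) • s0 • k = s0 • k := by rw [← mul_smul, e, mul_smul, h04]
    rw [h2, smul_add, hφ] at h3
    exact add_right_cancel h3
  have h01 : (swap 0 1 : P5) • k = k := by
    have e : (swap 0 1 : P5) = t1 * swap 0 2 * t1 := by decide
    rw [e, mul_smul, mul_smul, hk.1, h02, hk.1]
  have hfg : FG k := fg_of_swap fun i => by
    fin_cases i
    · change (swap 0 0 : P5) • k = k
      rw [swap_self]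
      exact one_smul P5 k
    · exact h01
    · exact h02
    · exact h03
    · exact h04
  exact ⟨hfg, by rw [← h, hfg, two]⟩

/-- **the halving lemma** -/
theorem halving (two : ∀ a : A, a + a = 0) {M : AddSubgroup A} (hM : ∀ g : P5, ∀ a ∈ M, g • a ∈ M)
    (Q : ∀ a ∈ M, FR a → F0 a) {c : A} (hcM : c ∈ M) (hc : FJ c) :
    ∃ φ a b : A, FG φ ∧ F0 a ∧ F0 b ∧ tr5 A a = 0 ∧ tr5 A b = 0 ∧ c = φ + du a 1 2 + du b 3 4 := by
  obtain ⟨φ, y, hφ, hφM, hyM, hy, hy5, -, h1⟩ := split two hM Q hcM hc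
  have hduM : ∀ {a : A}, a ∈ M → ∀ i j, du a i j ∈ M := fun ha i j => add_mem (hM _ _ ha) (hM _ _ ha)
  set c1 := c + du y 1 2 with hc1
  have hc1M : c1 ∈ M := add_mem hcM (hduM hyM _ _)
  have hc1J : FJ c1 := hc.add hy.du_fj
  -- `k`
  set k := c1 + x2 • c1 + (x2 * x2) • c1 with hkd
  have hkM : k ∈ M := add_mem (add_mem hc1M (hM _ _ hc1M)) (hM _ _ hc1M)
  have hkx : x2 • k = k := by
    rw [hkd, smul_add, smul_add, ← mul_smul, ← mul_smul]
    have e : x2 * (x2 * x2) = 1 := by decide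
    rw [e, one_smul]
    abel
  have hkJ : FJ k := by
    constructor
    · rw [hkd, smul_add, smul_add, ← mul_smul, ← mul_smul]
      have e1 : t1 * x2 = x2 * t1 := by decide
      have e2 : t1 * (x2 * x2) = x2 * x2 * t1 := by decide
      rw [e1, e2, mul_smul, mul_smul (x2 * x2), hc1J.1]
    · rw [hkd, smul_add, smul_add, ← mul_smul, ← mul_smul]
      have e1 : t2 * x2 = x2 * x2 * t2 := by decide
      have e2 : t2 * (x2 * x2) = x2 * t2 := by decide
      rw [e1, e2, mul_smul (x2 * x2) t2, mul_smul x2 t2, hc1J.2]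
      abel
  obtain ⟨φ', y', hφ', -, hy'M, hy', hy'5, h2, h3⟩ := split two hM Q hkM hkJ
  have hx2du : x2 • du y' 1 2 = du y' 1 2 := by
    rw [hy'.du_smul]
    have e : x2 1 = 1 ∧ x2 2 = 2 := by decide
    rw [e.1, e.2]
  obtain ⟨hk1, hφ0⟩ := fixedH two (hkJ.add hy'.du_fj) (by rw [smul_add, hkx, hx2du]) h3 hφ'
  set k1 := k + du y' 1 2 with hk1d
  -- `c'`
  set c' := c1 + k + du y' 3 4 with hc'd
  have hc'M : c' ∈ M := add_mem (add_mem hc1M hkM) (hduM hy'M _ _)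
  have hc'J : FJ c' := (hc1J.add hkJ).add hy'.du_fj'
  have h4 : c' + s0 • c' = φ := by
    rw [hc'd, smul_add, smul_add, hy'.s_du']
    have e1 : c1 + k + du y' 3 4 + (s0 • c1 + s0 • k + du y' 1 2) =
        (c1 + s0 • c1) + ((k + s0 • k) + (du y' 1 2 + du y' 3 4)) := by abel
    rw [e1, h1, h2, hφ0, zero_add, ← F0.sum two hy'5, two, add_zero]
  have h5 : c' + x2 • c' + (x2 * x2) • c' = 0 := by
    have h6 : (x2 * x2) • k = k := by rw [mul_smul, hkx, hkx]
    have h7 : du y' 3 4 + x2 • du y' 3 4 + (x2 * x2) • du y' 3 4 = 0 := by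
      rw [add_assoc, ← pi2_apply, hy'.pi2_du two, two]
    rw [hc'd]
    simp only [smul_add, hkx, h6]
    have e1 : c1 + k + du y' 3 4 + (x2 • c1 + k + x2 • du y' 3 4) + ((x2 * x2) • c1 + k + (x2 * x2) • du y' 3 4) =
        (c1 + x2 • c1 + (x2 * x2) • c1) + (du y' 3 4 + x2 • du y' 3 4 + (x2 * x2) • du y' 3 4) + k + (k + k) := by
      abel
    rw [e1, h7, ← hkd, two, add_zero, add_zero, two]
  have hφ00 := dc two hc'J h5 h4 hφ
  rw [hφ00] at h4
  have h8 : s0 • c' = c' := by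
    have := add_eq two h4
    rw [add_zero] at this
    exact this
  have hc'0 := Q c' hc'M ⟨hc'J.1, h8⟩
  have hψ := tr5_fg hc'0
  set ψ := tr5 A c' with hψd
  set w := c' + ψ with hwd
  have hw : F0 w := hc'0.add hψ.f0
  have hw5 : tr5 A w = 0 := by rw [hwd, map_add, ← hψd, tr5_of two hψ, two]
  refine ⟨ψ + k1, w + y' + y, w + y', hψ.add hk1, (hw.add hy').add hy, hw.add hy', ?_, ?_, ?_⟩
  · rw [map_add, map_add, hw5, hy'5, hy5, add_zero, add_zero]
  · rw [map_add, hw5, hy'5, add_zero]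
  · have e1 : c = c1 + du y 1 2 := by rw [hc1, add_assoc, two, add_zero]
    have e2 : c1 = c' + k + du y' 3 4 := by
      rw [hc'd]
      have : c1 + k + du y' 3 4 + k + du y' 3 4 = c1 + (k + k) + (du y' 3 4 + du y' 3 4) := by abel
      rw [this, two, two, add_zero, add_zero]
    have e3 : k = k1 + du y' 1 2 := by rw [hk1d, add_assoc, two, add_zero]
    have e4 : c' = w + ψ := by rw [hwd, add_assoc, two, add_zero]
    have e5 := F0.sum two hw5
    rw [e1, e2, e3, e4]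
    simp only [du_add]
    conv_lhs => rw [e5]
    abel

/-- the consequences of the halving lemma for the projections -/
theorem halving_pi (two : ∀ a : A, a + a = 0) {M : AddSubgroup A} (hM : ∀ g : P5, ∀ a ∈ M, g • a ∈ M)
    (Q : ∀ a ∈ M, FR a → F0 a) {c : A} (hcM : c ∈ M) (hc : FJ c) :
    pi1 A (pi2 A c) = 0 ∧ pi2 A (pi1 A c) = 0 ∧ FG (c + pi1 A c + pi2 A c) := by
  obtain ⟨φ, a, b, hφ, ha, hb, -, -, rfl⟩ := halving two hM Q hcM hc
  have e1 : pi1 A (φ + du a 1 2 + du b 3 4) = du a 1 2 := by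
    rw [map_add, map_add, hφ.pi1 two, ha.pi1_du two, hb.pi1_du' two, zero_add, add_zero]
  have e2 : pi2 A (φ + du a 1 2 + du b 3 4) = du b 3 4 := by
    rw [map_add, map_add, hφ.pi2 two, ha.pi2_du' two, hb.pi2_du two, zero_add, zero_add]
  rw [e1, e2]
  refine ⟨hb.pi1_du' two, ha.pi2_du' two, ?_⟩
  have e3 : φ + du a 1 2 + du b 3 4 + du a 1 2 + du b 3 4 =
      φ + (du a 1 2 + du a 1 2) + (du b 3 4 + du b 3 4) := by abel
  rw [e3, two, two, add_zero, add_zero]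
  exact hφ

/-! ### (B5) -/

/-- (B5): `D = b - 1`, `b` an involution commuting with `R` and with `b b^x b^(x²) = 1`; `w = D c`. -/
theorem kill (two : ∀ a : A, a + a = 0) (D : A →+ A) (hD : ∀ a, D (D a) = 0) (ht : ∀ a, D (t1 • a) = t1 • D a)
    (hs : ∀ a, D (s0 • a) = s0 • D a)
    (hx : ∀ a, D a + x1 • D (x1⁻¹ • a) + (x1 * x1) • D ((x1 * x1)⁻¹ • a) = D (x1 • D (x1⁻¹ • a)))
    {c : A} (hc : FG c) (hw : F0 (D c)) : D c = 0 := by
  set w := D c with hwd
  -- `w q`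
  let W : Fin 5 → A := fun q => (swap 0 q : P5) • w
  have hW : ∀ (g : P5) (q : Fin 5), g • W q = W (g q) := fun g q => hw.smul g q
  have hW0 : W 0 = w := by
    change (swap 0 0 : P5) • w = w
    rw [swap_self]
    exact one_smul P5 w
  have hx1 : x1 0 = 1 ∧ x1 1 = 2 ∧ x1 2 = 0 ∧ x1 3 = 3 ∧ x1 4 = 4 := by decide
  have hxx : (x1 * x1) 0 = 2 ∧ (x1 * x1) 1 = 0 ∧ (x1 * x1) 2 = 1 ∧ (x1 * x1) 3 = 3 ∧ (x1 * x1) 4 = 4 := by decide
  have hxi : x1⁻¹ 0 = 2 ∧ x1⁻¹ 1 = 0 ∧ x1⁻¹ 2 = 1 ∧ x1⁻¹ 3 = 3 ∧ x1⁻¹ 4 = 4 := by decide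
  have hxxi : (x1 * x1)⁻¹ 0 = 1 ∧ (x1 * x1)⁻¹ 1 = 2 ∧ (x1 * x1)⁻¹ 2 = 0 ∧ (x1 * x1)⁻¹ 3 = 3 ∧
      (x1 * x1)⁻¹ 4 = 4 := by decide
  have hDW0 : D (W 0) = 0 := by rw [hW0, hwd, hD]
  -- `(*)` on `c`
  have hDW1 : D (W 1) = W 0 + W 1 + W 2 := by
    have h := hx c
    rw [hc, hc, ← hwd] at h
    have e1 : x1 • w = W 1 := by rw [← hW0, hW, hx1.1]
    have e2 : (x1 * x1) • w = W 2 := by rw [← hW0, hW, hxx.1]
    rw [e1, e2, ← hW0] at h
    exact h.symm
  have hDW2 : D (W 2) = W 0 + W 1 + W 2 := by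
    have e : t1 1 = 2 ∧ t1 0 = 0 ∧ t1 2 = 1 := by decide
    have h := ht (W 1)
    rw [hW, e.1, hDW1, smul_add, smul_add, hW, hW, hW, e.1, e.2.1, e.2.2] at h
    rw [h]
    abel
  have hDW3 : D (W 3) = W 0 + W 3 + W 4 := by
    have e : s0 1 = 3 ∧ s0 0 = 0 ∧ s0 2 = 4 := by decide
    have h := hs (W 1)
    rw [hW, e.1, hDW1, smul_add, smul_add, hW, hW, hW, e.1, e.2.1, e.2.2] at h
    exact h
  have hDW4 : D (W 4) = W 0 + W 3 + W 4 := by
    have e : s0 2 = 4 ∧ s0 0 = 0 ∧ s0 1 = 3 := by decide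
    have h := hs (W 2)
    rw [hW, e.1, hDW2, smul_add, smul_add, hW, hW, hW, e.1, e.2.1, e.2.2] at h
    exact h
  -- `(*)` on `W 3`
  have h34 : W 3 + W 4 = 0 := by
    have h := hx (W 3)
    rw [hW, hW, hxi.2.2.2.1, hxxi.2.2.2.1, hDW3, smul_add, smul_add, smul_add, smul_add, hW, hW, hW, hW, hW, hW,
      hx1.1, hx1.2.2.2.1, hx1.2.2.2.2, hxx.1, hxx.2.2.2.1, hxx.2.2.2.2, map_add, map_add, hDW1, hDW3, hDW4] at h
    have e1 : W 0 + W 3 + W 4 + (W 1 + W 3 + W 4) + (W 2 + W 3 + W 4) =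
        (W 0 + W 1 + W 2) + (W 3 + W 4) + ((W 3 + W 4) + (W 3 + W 4)) := by abel
    have e2 : W 0 + W 1 + W 2 + (W 0 + W 3 + W 4) + (W 0 + W 3 + W 4) =
        (W 0 + W 1 + W 2) + ((W 0 + W 3 + W 4) + (W 0 + W 3 + W 4)) := by abel
    rw [e1, e2, two, two, add_zero, add_zero] at h
    exact left_eq_add.1 h.symm
  have heq : ∀ p q : Fin 5, p ≠ q → W p + W q = 0 := by
    intro p q hpq
    obtain ⟨g, h3, h4⟩ : ∃ g : P5, g 3 = p ∧ g 4 = q := by
      revert p q
      decide +kernel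
    have h := congrArg (g • ·) h34
    simp only [smul_add, smul_zero, hW, h3, h4] at h
    exact h
  have h10 : W 1 = W 0 := by
    have := add_eq two (heq 0 1 (by decide))
    rw [add_zero] at this
    exact this
  have h20 : W 2 = W 0 := by
    have := add_eq two (heq 0 2 (by decide))
    rw [add_zero] at this
    exact this
  rw [h10, h20, hDW0, two, zero_add] at hDW1
  rw [← hW0, ← hDW1]

end Cfsg.Agent.Omega.IId.SymTwo5.Five
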