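import Cfsg.Agent.Omega.IId.SymTwo5.Dec

/-!
# (A1)-(A4) of bb OMEGA 18061: `E = ⊕ C_j`
-/

set_option autoImplicit false

namespace Cfsg.Agent.Omega.IId.SymTwo5

open Equiv Five

/-- `ι → Perm (Fin 5)` and the 2-group `𝒮` act on `A`; `∑ v l` is the only nonzero `𝒮`-fixed vector. -/
structure MDat {A ι 𝒮 : Type*} [AddCommGroup A] [Fintype ι] [DecidableEq ι] [Group 𝒮] [DistribMulAction 𝒮 A]
    [DistribMulAction (ι → P5) A] (σ : 𝒮 →* Perm ι) (τ : 𝒮 → ι → P5) (v : ι → A) : Prop where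
  two : ∀ a : A, a + a = 0
  s2 : IsPGroup 2 𝒮
  semi : ∀ (s : 𝒮) (l : ι) (g : P5) (a : A), s • ms l g • a = ms (σ s l) (τ s l * g * (τ s l)⁻¹) • s • a
  τR : ∀ s l, τ s l ∈ RR
  τmul : ∀ s s' l, τ (s * s') l = τ s (σ s' l) * τ s' l
  full : ∀ l, ∀ g ∈ RR, ∃ s : 𝒮, σ s = 1 ∧ (∀ m, m ≠ l → τ s m = 1) ∧ τ s l = g ∧ ∀ a : A, s • a = ms l g • a
  trans : ∀ l m, ∃ s : 𝒮, σ s l = m
  vF0 : ∀ l, gF0 l (v l)
  vFG : ∀ l m, l ≠ m → gFG l (v m)
  v0 : ∀ l, v l ≠ 0
  vsum : ∀ l, gtr5 l (v l) = 0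
  fix : ∀ a : A, (∀ s : 𝒮, s • a = a) → a = 0 ∨ a = ∑ l, v l

namespace MDat

variable {A ι 𝒮 : Type*} [AddCommGroup A] [Fintype ι] [DecidableEq ι] [Group 𝒮] [DistribMulAction 𝒮 A]
  [DistribMulAction (ι → P5) A] {σ : 𝒮 →* Perm ι} {τ : 𝒮 → ι → P5} {v : ι → A}

/-- `C(∏ R_l)` -/
def E0 (A ι : Type*) [AddCommGroup A] [DecidableEq ι] [DistribMulAction (ι → P5) A] : AddSubgroup A where
  carrier := {a | ∀ l : ι, gFR l a}
  zero_mem' := fun l => gFR_iff.2 ⟨smul_zero _, smul_zero _⟩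
  add_mem' := fun ha hb l => (ha l).add (hb l)
  neg_mem' := fun {a} ha l => gFR_iff.2 ⟨by rw [smul_neg, (gFR_iff.1 (ha l)).1], by rw [smul_neg, (gFR_iff.1 (ha l)).2]⟩

/-- `E = C(∏ J_l)` -/
def EE (A ι : Type*) [AddCommGroup A] [DecidableEq ι] [DistribMulAction (ι → P5) A] : AddSubgroup A where
  carrier := {a | ∀ l : ι, gFJ l a}
  zero_mem' := fun l => gFJ_iff.2 ⟨smul_zero _, smul_zero _⟩
  add_mem' := fun ha hb l => (ha l).add (hb l)
  neg_mem' := fun {a} ha l => gFJ_iff.2 ⟨by rw [smul_neg, (gFJ_iff.1 (ha l)).1], by rw [smul_neg, (gFJ_iff.1 (ha l)).2]⟩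

omit [Fintype ι] in
theorem mem_E0 {a : A} : a ∈ E0 A ι ↔ ∀ l : ι, gFR l a := Iff.rfl
omit [Fintype ι] in
theorem mem_EE {a : A} : a ∈ EE A ι ↔ ∀ l : ι, gFJ l a := Iff.rfl

/-- conjugation by `τ s l ∈ R` -/
theorem smul_FR (D : MDat σ τ v) (s : 𝒮) {l : ι} {a : A} (h : gFR l a) : gFR (σ s l) (s • a) := by
  have h1 : ∀ g ∈ RR, ms (σ s l) g • s • a = s • a := by
    intro g hg
    have h2 := D.semi s l ((τ s l)⁻¹ * g * τ s l) a
    rw [h.mem (mul_mem (mul_mem (inv_mem (D.τR s l)) hg) (D.τR s l))] at h2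
    have e : τ s l * ((τ s l)⁻¹ * g * τ s l) * (τ s l)⁻¹ = g := by group
    rw [e] at h2
    exact h2.symm
  exact gFR_iff.2 ⟨h1 _ t1_mem, h1 _ s0_mem⟩

theorem smul_FJ (D : MDat σ τ v) (s : 𝒮) {l : ι} {a : A} (h : gFJ l a) : gFJ (σ s l) (s • a) := by
  have h1 := D.semi s l t1 a
  have h2 := D.semi s l t2 a
  rw [(gFJ_iff.1 h).1] at h1
  rw [(gFJ_iff.1 h).2] at h2
  rcases RR_conj (D.τR s l) with ⟨h3, h4⟩ | ⟨h3, h4⟩
  · rw [h3] at h1
    rw [h4] at h2
    exact gFJ_iff.2 ⟨h1.symm, h2.symm⟩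
  · rw [h3] at h1
    rw [h4] at h2
    exact gFJ_iff.2 ⟨h2.symm, h1.symm⟩

theorem smul_FG (D : MDat σ τ v) (s : 𝒮) {l : ι} {a : A} (h : gFG l a) : gFG (σ s l) (s • a) := by
  refine gFG_iff.2 fun g => ?_
  have h2 := D.semi s l ((τ s l)⁻¹ * g * τ s l) a
  rw [gFG_iff.1 h] at h2
  have e : τ s l * ((τ s l)⁻¹ * g * τ s l) * (τ s l)⁻¹ = g := by group
  rw [e] at h2
  exact h2.symm

theorem smul_FG' (D : MDat σ τ v) (s : 𝒮) {l : ι} {a : A} (h : ∀ m, m ≠ l → gFG m a) :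
    ∀ m, m ≠ σ s l → gFG m (s • a) := by
  intro m hm
  have h1 := D.smul_FG s (h ((σ s).symm m) fun h => hm (by rw [← h, apply_symm_apply]))
  rwa [apply_symm_apply] at h1

theorem smul_E0 (D : MDat σ τ v) (s : 𝒮) {a : A} (h : a ∈ E0 A ι) : s • a ∈ E0 A ι := by
  intro l
  have := D.smul_FR s (h ((σ s).symm l))
  rwa [apply_symm_apply] at this

theorem smul_EE (D : MDat σ τ v) (s : 𝒮) {a : A} (h : a ∈ EE A ι) : s • a ∈ EE A ι := by
  intro l
  have := D.smul_FJ s (h ((σ s).symm l))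
  rwa [apply_symm_apply] at this

/-- `s` and the transfers -/
theorem smul_tr0 (D : MDat σ τ v) (s : 𝒮) {l : ι} {a : A} (h : gFR l a) :
    s • gtr0 l a = gtr0 (σ s l) (s • a) := by
  have hF := D.smul_FR s h
  have hg := D.τR s l
  have e : ∀ g : P5, s • ms l g • a = ms (σ s l) (τ s l) • ms (σ s l) g • s • a := by
    intro g
    rw [D.semi, ms_mul, ms_mul, mul_smul, mul_smul, hF.mem (inv_mem hg)]
  rw [gtr0_apply, smul_add, smul_add, e, e]
  have e2 : s • a = ms (σ s l) (τ s l) • s • a := (hF.mem hg).symm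
  conv_lhs => enter [1, 1]; rw [e2]
  rw [← smul_add, ← smul_add, ← gtr0_apply]
  exact gF0_iff.1 (gtr0_f0 hF) _ (RR_zero hg)

theorem smul_tr5 (D : MDat σ τ v) (s : 𝒮) (l : ι) (a : A) :
    s • gtr5 l a = gtr5 (σ s l) (s • a) := by
  rw [gtr5_apply, gtr5_apply, Finset.smul_sum]
  have e : ∀ p : Fin 5, s • ms l (swap 0 p) • a = ms (σ s l) (swap 0 (τ s l p)) • s • a := by
    intro p
    rw [D.semi]
    congr 2
    rw [Equiv.mul_swap_eq_swap_mul, mul_inv_cancel_right, RR_zero (D.τR s l)]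
  rw [Finset.sum_congr rfl fun p _ => e p]
  exact Equiv.sum_comp (τ s l) fun p => ms (σ s l) (swap 0 p) • s • a

theorem smul_tr (D : MDat σ τ v) (s : 𝒮) {l : ι} {a : A} (h : gFR l a) :
    s • gtr l a = gtr (σ s l) (s • a) := by
  rw [gtr_apply, gtr_apply, D.smul_tr5, D.smul_tr0 s h]

omit [Fintype ι] in
theorem gtr_E0 {l : ι} {a : A} (h : a ∈ E0 A ι) : gtr l a ∈ E0 A ι := by
  intro m
  by_cases hm : l = m
  · subst hm
    exact (gtr_fg (h l)).fr
  · exact (h m).map fun g a => (ms_gtr hm g a).symm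

omit [Fintype ι] in
theorem gtr0_E0 {l : ι} {a : A} (h : a ∈ E0 A ι) : gtr0 l a ∈ E0 A ι := by
  intro m
  by_cases hm : l = m
  · subst hm
    exact (gtr0_f0 (h l)).fr
  · exact (h m).map fun g a => (ms_gtr0 hm g a).symm

/-- `E0` with the transfers -/
theorem idat0 (D : MDat σ τ v) : IDat (E0 A ι) (fun l => gtr l) (fun (s : 𝒮) l => σ s l) v where
  two := D.two
  s2 := D.s2
  inv s a ha := D.smul_E0 s ha
  mem l a ha := gtr_E0 ha
  idem l a ha := gtr_of D.two (gtr_fg (ha l))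
  comm l m a _ := gtr_gtr a
  perm s l a ha := D.smul_tr s (ha l)
  inj s l m h := (σ s).injective h
  vF l := fun m => by
    by_cases h : m = l
    · subst h
      exact (D.vF0 m).fr
    · exact (D.vFG m l h).fr
  v0 := D.v0
  vl l := by rw [gtr_apply, gtr0_of D.two (D.vF0 l), D.vsum]
  vm l m h := gtr_of D.two (D.vFG l m h)
  fix a _ h := D.fix a h

/-- a vector of `Y_l` fixed by `N_𝒮(l)` is `0` or `v l` -/
theorem fix_Y [Finite A] {F : AddSubgroup A} {ε : ι → A →+ A} (D : MDat σ τ v)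
    (I : IDat F ε (fun (s : 𝒮) l => σ s l) v) {l : ι} {u : A} (hu : u ∈ F) (h1 : ε l u = 0)
    (h2 : ∀ m, m ≠ l → ε m u = u) (h3 : ∀ s : 𝒮, σ s l = l → s • u = u) : u = 0 ∨ u = v l := by
  choose s hs using fun c => D.trans l c
  have hw : ∀ t : 𝒮, t • ∑ c, s c • u = ∑ c, s c • u := by
    intro t
    have e : ∀ c, t • s c • u = s (σ t c) • u := by
      intro c
      have h4 : ((s (σ t c))⁻¹ * (t * s c)) • u = u := h3 _ (by
        rw [map_mul, map_inv, map_mul, Perm.mul_apply, Perm.mul_apply, hs, Perm.inv_eq_iff_eq, hs])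
      conv_rhs => rw [← h4]
      rw [← mul_smul, ← mul_smul, mul_inv_cancel_left]
    rw [Finset.smul_sum, Finset.sum_congr rfl fun c _ => e c]
    exact Equiv.sum_comp (σ t) fun c => s c • u
  have hk : ∀ c, c ≠ l → (s c • u) + ε l (s c • u) = 0 := by
    intro c hc
    have h4 : ε l (s c • u) = s c • u := by
      have h5 := I.perm (s c) ((σ (s c)).symm l) u hu
      rw [apply_symm_apply] at h5
      rw [← h5, h2]
      intro h6
      apply hc
      have h7 : l = σ (s c) l := (Equiv.symm_apply_eq _).1 h6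
      rw [hs c] at h7
      exact h7.symm
    rw [h4, D.two]
  have hl : s l • u = u := h3 _ (hs l)
  have hsum : (∑ c, s c • u) + ε l (∑ c, s c • u) = u := by
    rw [map_sum, ← Finset.sum_add_distrib, ← Finset.sum_erase_add _ _ (Finset.mem_univ l),
      Finset.sum_eq_zero fun c hc => hk c (Finset.ne_of_mem_erase hc), zero_add, hl, h1, add_zero]
  rcases D.fix _ hw with h | h
  · left
    rw [← hsum, h, map_zero, add_zero]
  · right
    rw [← hsum, h, map_sum, ← Finset.sum_add_distrib, ← Finset.sum_erase_add _ _ (Finset.mem_univ l),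
      Finset.sum_eq_zero fun c hc => ?_, zero_add, I.vl, add_zero]
    rw [I.vm l c (Finset.ne_of_mem_erase hc).symm, D.two]

/-- the stabiliser of `l` in `𝒮` -/
def stl (σ : 𝒮 →* Perm ι) (l : ι) : Subgroup 𝒮 where
  carrier := {s | σ s l = l}
  one_mem' := by
    change σ 1 l = l
    rw [map_one]; rfl
  mul_mem' {a b} ha hb := by
    change σ (a * b) l = l
    have ha' : σ a l = l := ha
    have hb' : σ b l = l := hb
    rw [map_mul, Perm.mul_apply, hb', ha']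
  inv_mem' {a} ha := by
    change σ a⁻¹ l = l
    have ha' : σ a l = l := ha
    rw [map_inv, Perm.inv_eq_iff_eq, ha']

/-- **(A1)**: `C(∏ R_l)` is centralised by the stabilisers of the points `0`. -/
theorem c0 [Finite A] (D : MDat σ τ v) {a : A} (ha : a ∈ E0 A ι) (l : ι) : gF0 l a := by
  have I := D.idat0
  -- `Y_l`
  let Y : AddSubgroup A :=
    { carrier := {y | y ∈ E0 A ι ∧ gtr l y = 0 ∧ ∀ m, m ≠ l → gFG m y}
      zero_mem' := ⟨zero_mem _, map_zero _, fun m _ => gFG_iff.2 fun g => smul_zero _⟩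
      add_mem' := fun {a b} ha hb => ⟨add_mem ha.1 hb.1, by rw [map_add, ha.2.1, hb.2.1, add_zero],
        fun m hm => (ha.2.2 m hm).add (hb.2.2 m hm)⟩
      neg_mem' := fun {a} ha => ⟨neg_mem ha.1, by rw [map_neg, ha.2.1, neg_zero],
        fun m hm => gFG_iff.2 fun g => by rw [smul_neg, gFG_iff.1 (ha.2.2 m hm)]⟩ }
  have hY : ∀ y ∈ Y, gtr0 l y ∈ Y := by
    intro y hy
    refine ⟨gtr0_E0 hy.1, ?_, fun m hm => ?_⟩
    · rw [gtr_apply, gtr0_of D.two (gtr0_f0 (hy.1 l)), ← gtr_apply, hy.2.1]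
    · exact (hy.2.2 m hm).map fun g a => (ms_gtr0 hm.symm g a).symm
  -- `(1 + e') Y`
  let N : AddSubgroup A := Y.map (AddMonoidHom.id A + gtr0 l)
  have hN : ∀ u, u ∈ N ↔ ∃ y ∈ Y, y + gtr0 l y = u := fun u => Iff.rfl
  have hNs : ∀ s : stl σ l, ∀ u ∈ N, s • u ∈ N := by
    rintro ⟨s, hs⟩ u hu
    obtain ⟨y, hy, rfl⟩ := (hN u).1 hu
    have hs' : σ s l = l := hs
    refine (hN _).2 ⟨s • y, ⟨D.smul_E0 s hy.1, ?_, ?_⟩, ?_⟩
    · have := D.smul_tr s (hy.1 l)
      rw [hy.2.1, smul_zero, hs'] at this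
      exact this.symm
    · have := D.smul_FG' s hy.2.2
      rwa [hs'] at this
    · have := D.smul_tr0 s (hy.1 l)
      rw [hs'] at this
      change s • y + gtr0 l (s • y) = s • (y + gtr0 l y)
      rw [smul_add, this]
  have hNbot : N = ⊥ := by
    by_contra hne
    obtain ⟨u, hu, hu0, hus⟩ := exists_fixed D.two (D.s2.to_subgroup (stl σ l)) hNs hne
    obtain ⟨y, hy, rfl⟩ := (hN u).1 hu
    have huY : y + gtr0 l y ∈ Y := add_mem hy (hY y hy)
    have h0 : gtr0 l (y + gtr0 l y) = 0 := by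
      rw [map_add, gtr0_of D.two (gtr0_f0 (hy.1 l)), D.two]
    rcases D.fix_Y I huY.1 huY.2.1 (fun m hm => gtr_of D.two (huY.2.2 m hm)) (fun s hs => hus ⟨s, hs⟩) with h | h
    · exact hu0 h
    · rw [h, gtr0_of D.two (D.vF0 l)] at h0
      exact D.v0 l h0
  have hYF0 : ∀ y ∈ Y, gF0 l y := by
    intro y hy
    have h1 : y + gtr0 l y ∈ N := (hN _).2 ⟨y, hy, rfl⟩
    rw [hNbot, AddSubgroup.mem_bot] at h1
    have h2 : gtr0 l y = y := by
      have h3 : y + gtr0 l y = y + y := by rw [h1, D.two]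
      exact add_left_cancel h3
    rw [← h2]
    exact gtr0_f0 (hy.1 l)
  have hsum := I.sum ha
  rw [← hsum]
  have hF0 : ∀ m ∈ (Finset.univ : Finset ι), gF0 l (a + gtr m a) := by
    intro m _
    have hmE : a + gtr m a ∈ E0 A ι := add_mem ha (gtr_E0 ha)
    have hfg : ∀ m', m' ≠ m → gFG m' (a + gtr m a) := by
      intro m' hm'
      have h1 := I.orth hm'.symm ha
      have h2 : gtr m' (a + gtr m a) = a + gtr m a := by
        have h3 : a + gtr m a + gtr m' (a + gtr m a) = (a + gtr m a) + (a + gtr m a) := by rw [h1, D.two]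
        exact add_left_cancel h3
      rw [← h2]
      exact gtr_fg (hmE m')
    by_cases hm : m = l
    · subst hm
      refine hYF0 _ ⟨hmE, ?_, fun m' hm' => hfg m' hm'⟩
      rw [map_add, gtr_of D.two (gtr_fg (ha m)), D.two]
    · exact (hfg l (Ne.symm hm)).f0
  refine gF0_iff.2 fun g hg => ?_
  rw [Finset.smul_sum]
  exact Finset.sum_congr rfl fun m hm => gF0_iff.1 (hF0 m hm) g hg

/-- **(A2)**: a vector fixed by `R_l` and by the `J_m`, `m ≠ l`, is fixed by the stabiliser of `0` in the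
`l`-th factor. -/
theorem cQ [Finite A] (D : MDat σ τ v) {l : ι} {a : A} (ha : gFR l a) (hJ : ∀ m, m ≠ l → gFJ m a) : gF0 l a := by
  let M : AddSubgroup A :=
    { carrier := {a | gFR l a ∧ ∀ m, m ≠ l → gFJ m a}
      zero_mem' := ⟨gFR_iff.2 ⟨smul_zero _, smul_zero _⟩, fun m _ => gFJ_iff.2 ⟨smul_zero _, smul_zero _⟩⟩
      add_mem' := fun {a b} ha hb => ⟨ha.1.add hb.1, fun m hm => (ha.2 m hm).add (hb.2 m hm)⟩
      neg_mem' := fun {a} ha => ⟨gFR_iff.2 ⟨by rw [smul_neg, (gFR_iff.1 ha.1).1], by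
        rw [smul_neg, (gFR_iff.1 ha.1).2]⟩, fun m hm => gFJ_iff.2 ⟨by rw [smul_neg, (gFJ_iff.1 (ha.2 m hm)).1], by
        rw [smul_neg, (gFJ_iff.1 (ha.2 m hm)).2]⟩⟩ }
  let N : AddSubgroup A := M.map (AddMonoidHom.id A + gtr0 l)
  have hN : ∀ u, u ∈ N ↔ ∃ y ∈ M, y + gtr0 l y = u := fun u => Iff.rfl
  -- `S_(l)`
  let Sl : Subgroup 𝒮 :=
    { carrier := {s | σ s l = l ∧ τ s l = 1}
      one_mem' := by
        refine ⟨by rw [map_one]; rfl, ?_⟩
        have h := D.τmul 1 1 l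
        rw [mul_one, map_one, Perm.one_apply] at h
        exact left_eq_mul.1 h
      mul_mem' := fun {a b} ha hb => ⟨by rw [map_mul, Perm.mul_apply, hb.1, ha.1], by
        rw [D.τmul, hb.1, ha.2, hb.2, one_mul]⟩
      inv_mem' := fun {a} ha => by
        have h1 : σ a⁻¹ l = l := by rw [map_inv, Perm.inv_eq_iff_eq, ha.1]
        refine ⟨h1, ?_⟩
        have h := D.τmul a a⁻¹ l
        rw [mul_inv_cancel, h1, ha.2, one_mul] at h
        have h' := D.τmul 1 1 l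
        rw [mul_one, map_one, Perm.one_apply] at h'
        rw [← h]
        exact left_eq_mul.1 h' }
  have hNs : ∀ s : Sl, ∀ u ∈ N, s • u ∈ N := by
    rintro ⟨s, hs⟩ u hu
    obtain ⟨y, hy, rfl⟩ := (hN u).1 hu
    refine (hN _).2 ⟨s • y, ⟨?_, ?_⟩, ?_⟩
    · have := D.smul_FR s hy.1
      rwa [hs.1] at this
    · intro m hm
      have := D.smul_FJ s (hy.2 ((σ s).symm m) fun h => hm (by rw [← hs.1, ← h, apply_symm_apply]))
      rwa [apply_symm_apply] at this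
    · have := D.smul_tr0 s hy.1
      rw [hs.1] at this
      change s • y + gtr0 l (s • y) = s • (y + gtr0 l y)
      rw [smul_add, this]
  have hNbot : N = ⊥ := by
    by_contra hne
    obtain ⟨u, hu, hu0, hus⟩ := exists_fixed D.two (D.s2.to_subgroup Sl) hNs hne
    obtain ⟨y, hy, rfl⟩ := (hN u).1 hu
    have h0 : gtr0 l (y + gtr0 l y) = 0 := by
      rw [map_add, gtr0_of D.two (gtr0_f0 hy.1), D.two]
    have hE : y + gtr0 l y ∈ E0 A ι := by
      intro m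
      by_cases hm : m = l
      · subst hm
        exact hy.1.add (gtr0_f0 hy.1).fr
      · have key : ∀ g ∈ RR, ms m g • (y + gtr0 l y) = y + gtr0 l y := by
          intro g hg
          obtain ⟨s, h1, h2, -, h4⟩ := D.full m g hg
          rw [← h4]
          exact hus ⟨s, by rw [h1]; rfl, h2 l (Ne.symm hm)⟩
        exact gFR_iff.2 ⟨key _ t1_mem, key _ s0_mem⟩
    have h1 := gtr0_of D.two (D.c0 hE l)
    rw [h0] at h1
    exact hu0 h1.symm
  have h1 : a + gtr0 l a ∈ N := (hN _).2 ⟨a, ⟨ha, hJ⟩, rfl⟩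
  rw [hNbot, AddSubgroup.mem_bot] at h1
  have h2 : gtr0 l a = a := by
    have h3 : a + gtr0 l a = a + a := by rw [h1, D.two]
    exact add_left_cancel h3
  rw [← h2]
  exact gtr0_f0 ha

end MDat

end Cfsg.Agent.Omega.IId.SymTwo5
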