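import Cfsg.Agent.Omega.IId.SymTwo5.Mod

/-!
# (A4) of bb OMEGA 18061: `E = ⊕ C_j`, `j` a duad
-/

set_option autoImplicit false

namespace Cfsg.Agent.Omega.IId.SymTwo5

open Equiv Five

namespace MDat

variable {A ι 𝒮 : Type*} [AddCommGroup A] [Fintype ι] [DecidableEq ι] [Group 𝒮] [DistribMulAction 𝒮 A]
  [DistribMulAction (ι → P5) A] {σ : 𝒮 →* Perm ι} {τ : 𝒮 → ι → P5} {v : ι → A}

/-- the halving lemma in the `l`-th factor -/
theorem halve [Finite A] (D : MDat σ τ v) {a : A} (ha : a ∈ EE A ι) (l : ι) :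
    gpi l 0 (gpi l 1 a) = 0 ∧ gpi l 1 (gpi l 0 a) = 0 ∧ gFG l (a + gpi l 0 a + gpi l 1 a) := by
  let M : AddSubgroup A :=
    { carrier := {a | ∀ m, m ≠ l → gFJ m a}
      zero_mem' := fun m _ => gFJ_iff.2 ⟨smul_zero _, smul_zero _⟩
      add_mem' := fun {a b} ha hb => fun m hm => (ha m hm).add (hb m hm)
      neg_mem' := fun {a} ha => fun m hm => gFJ_iff.2 ⟨by rw [smul_neg, (gFJ_iff.1 (ha m hm)).1], by
        rw [smul_neg, (gFJ_iff.1 (ha m hm)).2]⟩ }
  refine @halving_pi A _ (act A l) D.two M ?_ ?_ a (fun m _ => ha m) (ha l)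
  · intro g b hb m hm
    exact (hb m hm).map (φ := fun b => ms l g • b) fun g' b => ms_smul_comm (Ne.symm hm) g g' b
  · intro b hb hbR
    exact D.cQ hbR hb

omit [Fintype ι] in
theorem gpi_idem (two : ∀ a : A, a + a = 0) (l : ι) (i : Fin 2) (a : A) : gpi l i (gpi l i a) = gpi l i a := by
  have h3 : ∀ x : P5, x * x * x = 1 → ∀ b : A,
      ms l x • (ms l x • b + ms l (x * x) • b) + ms l (x * x) • (ms l x • b + ms l (x * x) • b) =
        ms l x • b + ms l (x * x) • b := by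
    intro x hx b
    have e1 : ms l x * ms l (x * x) = 1 := by rw [← ms_mul, ← mul_assoc, hx, ms_one]
    have e2 : ms l (x * x) * ms l x = 1 := by rw [← ms_mul, hx, ms_one]
    have e3 : ms l (x * x) * ms l (x * x) = ms l x := by
      rw [← ms_mul]
      have : x * x * (x * x) = x := by rw [← mul_assoc, hx, one_mul]
      rw [this]
    have e4 : ms l x * ms l x = ms l (x * x) := (ms_mul l x x).symm
    rw [smul_add, smul_add, ← mul_smul, ← mul_smul, ← mul_smul, ← mul_smul, e1, e2, e3, e4, one_smul]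
    calc ms l (x * x) • b + b + (b + ms l x • b) = ms l x • b + ms l (x * x) • b + (b + b) := by abel
      _ = _ := by rw [two, add_zero]
  fin_cases i
  · exact h3 x1 (by decide) a
  · exact h3 x2 (by decide) a

omit [Fintype ι] in
theorem gpi_FJ {l : ι} (i : Fin 2) {a : A} (h : gFJ l a) : gFJ l (gpi l i a) := by
  obtain ⟨h1, h2⟩ := gFJ_iff.1 h
  fin_cases i
  · change gFJ l (ms l x1 • a + ms l (x1 * x1) • a)
    refine gFJ_iff.2 ⟨?_, ?_⟩
    · have e1 : t1 * x1 = x1 * x1 * t1 := by decide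
      have e2 : t1 * (x1 * x1) = x1 * t1 := by decide
      rw [smul_add, ← mul_smul, ← mul_smul, ← ms_mul, ← ms_mul, e1, e2, ms_mul l (x1 * x1), ms_mul l x1 t1, mul_smul,
        mul_smul, h1, add_comm]
    · have e1 : t2 * x1 = x1 * t2 := by decide
      have e2 : t2 * (x1 * x1) = x1 * x1 * t2 := by decide
      rw [smul_add, ← mul_smul, ← mul_smul, ← ms_mul, ← ms_mul, e1, e2, ms_mul l (x1 * x1), ms_mul l x1 t2, mul_smul,
        mul_smul, h2]
  · change gFJ l (ms l x2 • a + ms l (x2 * x2) • a)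
    refine gFJ_iff.2 ⟨?_, ?_⟩
    · have e1 : t1 * x2 = x2 * t1 := by decide
      have e2 : t1 * (x2 * x2) = x2 * x2 * t1 := by decide
      rw [smul_add, ← mul_smul, ← mul_smul, ← ms_mul, ← ms_mul, e1, e2, ms_mul l (x2 * x2), ms_mul l x2 t1, mul_smul,
        mul_smul, h1]
    · have e1 : t2 * x2 = x2 * x2 * t2 := by decide
      have e2 : t2 * (x2 * x2) = x2 * t2 := by decide
      rw [smul_add, ← mul_smul, ← mul_smul, ← ms_mul, ← ms_mul, e1, e2, ms_mul l (x2 * x2), ms_mul l x2 t2, mul_smul,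
        mul_smul, h2, add_comm]

omit [Fintype ι] in
theorem gpi_EE (l : ι) (i : Fin 2) {a : A} (h : a ∈ EE A ι) : gpi l i a ∈ EE A ι := by
  intro m
  by_cases hm : l = m
  · subst hm
    exact gpi_FJ i (h l)
  · exact (h m).map fun g a => (ms_gpi hm g i a).symm

/-- the permutation of the duads induced by `s` -/
def sp (σ : 𝒮 →* Perm ι) (τ : 𝒮 → ι → P5) (s : 𝒮) (j : ι × Fin 2) : ι × Fin 2 := (σ s j.1, sg (τ s j.1) j.2)

theorem sp_mul (D : MDat σ τ v) (s t : 𝒮) (j : ι × Fin 2) : sp σ τ (s * t) j = sp σ τ s (sp σ τ t j) := by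
  unfold sp
  rw [map_mul, Perm.mul_apply, D.τmul, sg_mul (D.τR _ _) (D.τR _ _), Perm.mul_apply]

theorem τ_one (D : MDat σ τ v) (l : ι) : τ 1 l = 1 := by
  have h := D.τmul 1 1 l
  rw [mul_one, map_one, Perm.one_apply] at h
  exact left_eq_mul.1 h

theorem sp_one (D : MDat σ τ v) (j : ι × Fin 2) : sp σ τ 1 j = j := by
  unfold sp
  rw [map_one, Perm.one_apply, D.τ_one]
  have : sg 1 = 1 := by unfold sg; rw [if_pos (by group)]
  rw [this]
  rfl

theorem sp_inv (D : MDat σ τ v) (s : 𝒮) (j : ι × Fin 2) : sp σ τ s⁻¹ (sp σ τ s j) = j := by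
  rw [← D.sp_mul, inv_mul_cancel, D.sp_one]

theorem sp_inv' (D : MDat σ τ v) (s : 𝒮) (j : ι × Fin 2) : sp σ τ s (sp σ τ s⁻¹ j) = j := by
  rw [← D.sp_mul, mul_inv_cancel, D.sp_one]

theorem sp_trans (D : MDat σ τ v) (j j' : ι × Fin 2) : ∃ s : 𝒮, sp σ τ s j = j' := by
  obtain ⟨l, i⟩ := j
  obtain ⟨l', i'⟩ := j'
  obtain ⟨s, hs⟩ := D.trans l l'
  by_cases h : sg (τ s l) i = i'
  · exact ⟨s, by unfold sp; rw [hs, h]⟩
  · obtain ⟨t, h1, -, h3, -⟩ := D.full l' s0 s0_mem
    refine ⟨t * s, ?_⟩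
    rw [D.sp_mul]
    have e : sg s0 = swap 0 1 := by
      unfold sg
      rw [if_neg (by decide)]
    unfold sp
    rw [hs, h1, h3, e, Perm.one_apply]
    refine Prod.ext rfl ?_
    change swap 0 1 (sg (τ s l) i) = i'
    have : ∀ x y : Fin 2, ¬ x = y → swap 0 1 x = y := by decide
    exact this _ _ h

/-- the projections are permuted -/
theorem smul_gpi (D : MDat σ τ v) (s : 𝒮) (j : ι × Fin 2) (a : A) :
    s • gpi j.1 j.2 a = gpi (sp σ τ s j).1 (sp σ τ s j).2 (s • a) := by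
  obtain ⟨l, i⟩ := j
  have hc := RR_conjx (D.τR s l)
  unfold sp
  rcases hc with ⟨h1, h2, h3⟩ | ⟨h1, h2, h3⟩
  · have e : sg (τ s l) = 1 := by unfold sg; rw [if_pos h3]
    rw [e]
    fin_cases i
    · change s • (ms l x1 • a + ms l (x1 * x1) • a) = ms (σ s l) x1 • s • a + ms (σ s l) (x1 * x1) • s • a
      rw [smul_add, D.semi, D.semi]
      rcases h1 with ⟨h4, h5⟩ | ⟨h4, h5⟩ <;> rw [h4, h5]
      rw [add_comm]
    · change s • (ms l x2 • a + ms l (x2 * x2) • a) = ms (σ s l) x2 • s • a + ms (σ s l) (x2 * x2) • s • a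
      rw [smul_add, D.semi, D.semi]
      rcases h2 with ⟨h4, h5⟩ | ⟨h4, h5⟩ <;> rw [h4, h5]
      rw [add_comm]
  · have e : sg (τ s l) = swap 0 1 := by unfold sg; rw [if_neg h3]
    rw [e]
    fin_cases i
    · change s • (ms l x1 • a + ms l (x1 * x1) • a) = ms (σ s l) x2 • s • a + ms (σ s l) (x2 * x2) • s • a
      rw [smul_add, D.semi, D.semi]
      rcases h1 with ⟨h4, h5⟩ | ⟨h4, h5⟩ <;> rw [h4, h5]
      rw [add_comm]
    · change s • (ms l x2 • a + ms l (x2 * x2) • a) = ms (σ s l) x1 • s • a + ms (σ s l) (x1 * x1) • s • a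
      rw [smul_add, D.semi, D.semi]
      rcases h2 with ⟨h4, h5⟩ | ⟨h4, h5⟩ <;> rw [h4, h5]
      rw [add_comm]

/-- `ρ_l = 1 + π_1 + π_2` -/
def rho (l : ι) : A →+ A := AddMonoidHom.id A + gpi l 0 + gpi l 1

omit [Fintype ι] in
theorem rho_apply (l : ι) (a : A) : rho l a = a + gpi l 0 a + gpi l 1 a := rfl

omit [Fintype ι] in
theorem rho_of (two : ∀ a : A, a + a = 0) {l : ι} {a : A} (h : gFG l a) : rho l a = a := by
  rw [rho_apply, gpi0_apply, gpi1_apply, gFG_iff.1 h, gFG_iff.1 h, gFG_iff.1 h, gFG_iff.1 h, two, add_zero, add_zero]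

theorem smul_rho (D : MDat σ τ v) (s : 𝒮) (l : ι) (a : A) : s • rho l a = rho (σ s l) (s • a) := by
  rw [rho_apply, rho_apply, smul_add, smul_add]
  have h0 := D.smul_gpi s (l, 0) a
  have h1 := D.smul_gpi s (l, 1) a
  unfold sp at h0 h1
  rw [h0, h1]
  change s • a + gpi (σ s l) (sg (τ s l) 0) (s • a) + gpi (σ s l) (sg (τ s l) 1) (s • a) = _
  by_cases h : τ s l * t1 * (τ s l)⁻¹ = t1
  · have e : sg (τ s l) = 1 := by unfold sg; rw [if_pos h]
    rw [e]
    rfl
  · have e : sg (τ s l) = swap 0 1 := by unfold sg; rw [if_neg h]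
    rw [e, swap_apply_left, swap_apply_right, add_assoc, add_assoc, add_comm (gpi (σ s l) 1 (s • a))]

/-- the decomposition of the vectors `v l` -/
theorem rho_v (D : MDat σ τ v) (l : ι) : rho l (v l) = 0 := by
  have h1 := @F0.sum A _ (act A l) (v l) D.two (D.vsum l)
  have h2 := @F0.pi1_du A _ (act A l) (v l) D.two (D.vF0 l)
  have h3 := @F0.pi1_du' A _ (act A l) (v l) D.two (D.vF0 l)
  have h4 := @F0.pi2_du A _ (act A l) (v l) D.two (D.vF0 l)
  have h5 := @F0.pi2_du' A _ (act A l) (v l) D.two (D.vF0 l)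
  set x := @du A _ (act A l) (v l) 1 2 with hx
  set y := @du A _ (act A l) (v l) 3 4 with hy
  have h6 : gpi l 0 (v l) = x := by
    have h7 : gpi l 0 (v l) = @pi1 A _ (act A l) (x + y) := by rw [← h1]; rfl
    rw [h7, map_add, h2, h3, add_zero]
  have h8 : gpi l 1 (v l) = y := by
    have h7 : gpi l 1 (v l) = @pi2 A _ (act A l) (x + y) := by rw [← h1]; rfl
    rw [h7, map_add, h4, h5, zero_add]
  rw [rho_apply, h6, h8, add_assoc, ← h1, D.two]

/-- `E` with the `ρ_l` -/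
theorem idatE [Finite A] (D : MDat σ τ v) : IDat (EE A ι) (fun l => rho l) (fun (s : 𝒮) l => σ s l) v where
  two := D.two
  s2 := D.s2
  inv s a ha := D.smul_EE s ha
  mem l a ha := add_mem (add_mem ha (gpi_EE l 0 ha)) (gpi_EE l 1 ha)
  idem l a ha := rho_of D.two (D.halve ha l).2.2
  comm l m a _ := by
    by_cases h : l = m
    · subst h; rfl
    · simp only [rho_apply, map_add, gpi_gpi h]
      abel
  perm s l a _ := D.smul_rho s l a
  inj s l m h := (σ s).injective h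
  vF l := fun m => by
    by_cases h : m = l
    · subst h
      exact (D.vF0 m).fr.fj
    · exact (D.vFG m l h).fj
  v0 := D.v0
  vl l := D.rho_v l
  vm l m h := rho_of D.two (D.vFG l m h)
  fix a _ h := D.fix a h

/-- orthogonality -/
theorem gpi_orth [Finite A] (D : MDat σ τ v) {j j' : ι × Fin 2} (h : j ≠ j') {a : A} (ha : a ∈ EE A ι) :
    gpi j.1 j.2 (gpi j'.1 j'.2 a) = 0 := by
  obtain ⟨l, i⟩ := j
  obtain ⟨l', i'⟩ := j'
  change gpi l i (gpi l' i' a) = 0
  by_cases hl : l = l'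
  · subst hl
    have hi : i ≠ i' := fun hi => h (by rw [hi])
    have h1 := D.halve ha l
    have : ∀ x y : Fin 2, x ≠ y → (x = 0 ∧ y = 1) ∨ (x = 1 ∧ y = 0) := by decide
    rcases this i i' hi with ⟨rfl, rfl⟩ | ⟨rfl, rfl⟩
    · exact h1.1
    · exact h1.2.1
  · have hb : ∀ b ∈ EE A ι, rho l b + b = gpi l 0 b + gpi l 1 b := by
      intro b _
      rw [rho_apply]
      have : b + gpi l 0 b + gpi l 1 b + b = gpi l 0 b + gpi l 1 b + (b + b) := by abel
      rw [this, D.two, add_zero]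
    have hb' : rho l' (gpi l' i' a) = 0 := by
      have h1 := D.halve ha l'
      have h2 := gpi_idem D.two l' i' a
      rw [rho_apply]
      have : ∀ x : Fin 2, x = 0 ∨ x = 1 := by decide
      rcases this i' with rfl | rfl
      · rw [h2, h1.2.1, add_zero, D.two]
      · rw [h2, h1.1, add_zero, D.two]
    have h3 := D.idatE.orth (Ne.symm hl) (gpi_EE l' i' ha)
    change gpi l' i' a + rho l' (gpi l' i' a) + rho l (gpi l' i' a + rho l' (gpi l' i' a)) = 0 at h3
    rw [hb', add_zero, add_comm, hb _ (gpi_EE l' i' ha)] at h3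
    have h4 := congrArg (gpi l i) h3
    have h5 := D.halve (gpi_EE l' i' ha) l
    rw [map_zero, map_add] at h4
    have : ∀ x : Fin 2, x = 0 ∨ x = 1 := by decide
    rcases this i with rfl | rfl
    · rw [gpi_idem D.two, h5.1, add_zero] at h4
      exact h4
    · rw [gpi_idem D.two, h5.2.1, zero_add] at h4
      exact h4

/-- the sum of the projections -/
theorem gpi_sum [Finite A] (D : MDat σ τ v) {a : A} (ha : a ∈ EE A ι) : ∑ j : ι × Fin 2, gpi j.1 j.2 a = a := by
  have h := D.idatE.sum ha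
  rw [Fintype.sum_prod_type]
  conv_rhs => rw [← h]
  refine Finset.sum_congr rfl fun l _ => ?_
  rw [Fin.sum_univ_two, rho_apply]
  have : a + (a + gpi l 0 a + gpi l 1 a) = (a + a) + (gpi l 0 a + gpi l 1 a) := by abel
  rw [this, D.two, zero_add]

/-- the vector of the duad `j` -/
def zz (v : ι → A) (j : ι × Fin 2) : A := gpi j.1 j.2 (v j.1)

omit [Fintype ι] in
theorem zz_def (v : ι → A) (j : ι × Fin 2) : zz v j = gpi j.1 j.2 (v j.1) := rfl

theorem v_EE (D : MDat σ τ v) (l : ι) : v l ∈ EE A ι := fun m => by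
  by_cases h : m = l
  · subst h
    exact (D.vF0 m).fr.fj
  · exact (D.vFG m l h).fj

theorem v_eq (D : MDat σ τ v) (l : ι) : v l = zz v (l, 0) + zz v (l, 1) := by
  have h := D.rho_v l
  rw [rho_apply] at h
  have h2 : v l + (gpi l 0 (v l) + gpi l 1 (v l)) = v l + v l := by rw [← add_assoc, h, D.two]
  exact (add_left_cancel h2).symm

theorem gpi_v (D : MDat σ τ v) (j : ι × Fin 2) (l : ι) (h : j.1 ≠ l) : gpi j.1 j.2 (v l) = 0 := by
  have h1 := D.vFG j.1 l h
  have : ∀ x : Fin 2, x = 0 ∨ x = 1 := by decide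
  rcases this j.2 with h2 | h2
  · rw [h2, gpi0_apply, gFG_iff.1 h1, gFG_iff.1 h1, D.two]
  · rw [h2, gpi1_apply, gFG_iff.1 h1, gFG_iff.1 h1, D.two]

theorem gpi_sum_v (D : MDat σ τ v) (j : ι × Fin 2) : gpi j.1 j.2 (∑ l, v l) = zz v j := by
  rw [map_sum, ← Finset.sum_erase_add _ _ (Finset.mem_univ j.1), Finset.sum_eq_zero fun l hl =>
    D.gpi_v j l (Finset.ne_of_mem_erase hl).symm, zero_add, zz_def]

/-- **a vector of `C_j` fixed by the stabiliser of `j` is `0` or `z_j`** -/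
theorem fix_C [Finite A] (D : MDat σ τ v) {j : ι × Fin 2} {a : A} (ha : a ∈ EE A ι) (h1 : gpi j.1 j.2 a = a)
    (h2 : ∀ s : 𝒮, sp σ τ s j = j → s • a = a) : a = 0 ∨ a = zz v j := by
  choose s hs using fun c => D.sp_trans j c
  have hw : ∀ t : 𝒮, t • ∑ c, s c • a = ∑ c, s c • a := by
    intro t
    have e : ∀ c, t • s c • a = s (sp σ τ t c) • a := by
      intro c
      have h4 : ((s (sp σ τ t c))⁻¹ * (t * s c)) • a = a := h2 _ (by
        rw [D.sp_mul, D.sp_mul, hs]
        have h5 := D.sp_inv (s (sp σ τ t c)) j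
        rwa [hs] at h5)
      conv_rhs => rw [← h4]
      rw [← mul_smul, ← mul_smul, mul_inv_cancel_left]
    rw [Finset.smul_sum, Finset.sum_congr rfl fun c _ => e c]
    exact Equiv.sum_comp (⟨sp σ τ t, sp σ τ t⁻¹, D.sp_inv t, D.sp_inv' t⟩ : ι × Fin 2 ≃ ι × Fin 2) fun c => s c • a
  have hk : ∀ c, c ≠ j → gpi j.1 j.2 (s c • a) = 0 := by
    intro c hc
    have h4 : s c • a = gpi c.1 c.2 (s c • a) := by
      have h5 := D.smul_gpi (s c) j a
      rw [h1, hs] at h5
      exact h5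
    rw [h4]
    exact D.gpi_orth hc.symm (D.smul_EE _ ha)
  have hj : s j • a = a := h2 _ (hs j)
  have hsum : gpi j.1 j.2 (∑ c, s c • a) = a := by
    rw [map_sum, ← Finset.sum_erase_add _ _ (Finset.mem_univ j),
      Finset.sum_eq_zero fun c hc => hk c (Finset.ne_of_mem_erase hc), zero_add, hj, h1]
  rcases D.fix _ hw with h | h
  · left
    rw [← hsum, h, map_zero]
  · right
    rw [← hsum, h, D.gpi_sum_v]

theorem smul_v [Finite A] (D : MDat σ τ v) (s : 𝒮) (l : ι) : s • v l = v (σ s l) := by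
  have h : s • ∑ l, v l = ∑ l, v l := by
    rcases Finset.univ.eq_empty_or_nonempty (α := ι) with h0 | h0
    · rw [h0, Finset.sum_empty, smul_zero]
    · -- `∑ v l` is fixed: some nonzero vector is
      let B : AddSubgroup A := ⊤
      have hB : B ≠ ⊥ := by
        obtain ⟨l, -⟩ := h0
        intro hB
        have : v l ∈ B := trivial
        rw [hB, AddSubgroup.mem_bot] at this
        exact D.v0 l this
      obtain ⟨b, -, hb0, hb⟩ := exists_fixed D.two D.s2 (B := B) (fun _ _ _ => trivial) hB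
      rcases D.fix b hb with h1 | h1
      · exact absurd h1 hb0
      · rw [← h1]
        exact hb s
  have h1 : ∀ l, (∑ m, v m) + rho l (∑ m, v m) = v l := by
    intro l
    rw [map_sum, ← Finset.sum_add_distrib, ← Finset.sum_erase_add _ _ (Finset.mem_univ l),
      Finset.sum_eq_zero fun c hc => ?_, zero_add, D.rho_v, add_zero]
    rw [rho_of D.two (D.vFG l c (Finset.ne_of_mem_erase hc).symm), D.two]
  rw [← h1 l, smul_add, D.smul_rho, h, h1]

theorem smul_zz [Finite A] (D : MDat σ τ v) (s : 𝒮) (j : ι × Fin 2) : s • zz v j = zz v (sp σ τ s j) := by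
  rw [zz_def, D.smul_gpi, D.smul_v]
  rfl

theorem gpi_zz (D : MDat σ τ v) (j : ι × Fin 2) : gpi j.1 j.2 (zz v j) = zz v j := gpi_idem D.two _ _ _

theorem zz_EE (D : MDat σ τ v) (j : ι × Fin 2) : zz v j ∈ EE A ι := gpi_EE _ _ (D.v_EE _)

theorem zz_ne [Finite A] (D : MDat σ τ v) (j : ι × Fin 2) : zz v j ≠ 0 := by
  intro h
  have h2 : ∀ j', zz v j' = 0 := by
    intro j'
    obtain ⟨s, hs⟩ := D.sp_trans j j'
    rw [← hs, ← D.smul_zz, h, smul_zero]
  apply D.v0 j.1
  rw [D.v_eq, h2, h2, add_zero]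

end MDat

end Cfsg.Agent.Omega.IId.SymTwo5
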