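import Cfsg.Agent.Omega.ThmC.TwoN

/-!
# (F), (B3), (B4) of bb OMEGA 18061 at the level of `N = N_G(E)/C_G(E)`
-/

set_option autoImplicit false
set_option linter.unusedSectionVars false

namespace Cfsg.Agent.Omega.IId.SymTwo5.NLev

open Subgroup Cfsg.Agent.Omega.ThmC Cfsg.Agent.Omega.ThmC.NDat

variable {N : Type*} [Group N] [Finite N] {T : Sylow 2 N} {A : Type*} [AddCommGroup A] [Finite A]
  [DistribMulAction N A] {ι : Type*} [Fintype ι] {π : ι → A →+ A} {σ : N → ι → ι} {z : ι → A}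

/-- `rank n ≤ d` -/
def Small (A : Type*) [AddCommGroup A] [DistribMulAction N A] (π : ι → A →+ A) (l₀ : ι) (n : N) : Prop :=
  Nat.card (mv (A := A) n).range ≤ Nat.card {a : A // π l₀ a = a}

theorem Small.conj {l₀ : ι} {n : N} (h : Small A π l₀ n) (g : N) : Small A π l₀ (g * n * g⁻¹) := by
  unfold Small
  rw [rk_conj]
  exact h

theorem small_tp (D : NDat T π σ z) (l₀ : ι) {s : N} {a b : ι} (h : Tp T π σ s a b) : Small A π l₀ s :=
  (D.rk_le h.ne h.supp h.sq).trans (D.card_C_le a l₀)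

/-- (B3): the rank -/
theorem small_of (D : NDat T π σ z) (l₀ j : ι) {t : N} (h2 : t * t = 1)
    (h : ∀ e : A, π j e = 0 → π j (t • e) = 0 → t • e = e) : Small A π l₀ t := by
  refine le_trans ?_ (D.card_C_le j l₀)
  let f : (π j).ker →+ A := (mv (A := A) t).comp (π j).ker.subtype
  have hf : ∀ e, f e = t • (e : A) - e := fun _ => rfl
  -- `|ker π| = |ker f| |range f|`
  have c1 := AddSubgroup.card_mul_index f.ker
  rw [AddSubgroup.index_ker] at c1
  -- `|A| = |ker π| |range π|`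
  have c2 := AddSubgroup.card_mul_index (π j).ker
  rw [AddSubgroup.index_ker] at c2
  have c3 : Nat.card (π j).range = Nat.card {a : A // π j a = a} := by
    refine Nat.card_congr (Equiv.subtypeEquivRight fun a => ?_)
    constructor
    · rintro ⟨b, rfl⟩
      exact D.idem j b
    · intro h
      exact ⟨a, h⟩
  have c4 := card_mv (A := A) t
  -- injection
  have c5 : Nat.card f.ker * Nat.card f.range ≤ Nat.card {a : A // t • a = a} := by
    rw [← Nat.card_prod]
    refine Nat.card_le_card_of_injective (fun p => ⟨((p.1 : (π j).ker) : A) + (p.2 : A), ?_⟩) ?_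
    · have h3 : t • ((p.1 : (π j).ker) : A) = ((p.1 : (π j).ker) : A) := by
        have := p.1.2
        rw [AddMonoidHom.mem_ker, hf, sub_eq_zero] at this
        exact this
      obtain ⟨e, he⟩ := p.2.2
      rw [smul_add, h3, ← he, hf, D.invol_fix h2]
    · rintro ⟨a, b⟩ ⟨a', b'⟩ hab
      have h3 : ((a : (π j).ker) : A) + (b : A) = ((a' : (π j).ker) : A) + (b' : A) := congrArg Subtype.val hab
      obtain ⟨e, he⟩ := (b - b' : f.range).2
      have h4 : (b : A) - (b' : A) = ((a' : (π j).ker) : A) - ((a : (π j).ker) : A) := by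
        rw [sub_eq_sub_iff_add_eq_add, add_comm, h3, add_comm]
      have h5 : t • (e : A) - e = (b : A) - (b' : A) := by
        rw [← hf, he]
        rfl
      have h6 : π j (t • (e : A)) = 0 := by
        have h7 := congrArg (π j) (h5.trans h4)
        rw [map_sub, map_sub, e.2, (a' : (π j).ker).2, (a : (π j).ker).2, sub_zero, sub_zero] at h7
        exact h7
      have h7 := h e e.2 h6
      rw [h7, sub_self, eq_comm, sub_eq_zero] at h5
      have h8 : b = b' := Subtype.ext h5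
      subst h8
      have h9 := add_right_cancel h3
      have h10 : a = a' := Subtype.ext (Subtype.ext h9)
      rw [h10]
  rw [c1] at c5
  rw [c3] at c2
  have hpos : 0 < Nat.card (π j).ker := Nat.card_pos
  have c6 : Nat.card (mv (A := A) t).range * Nat.card (π j).ker ≤ Nat.card {a : A // π j a = a} * Nat.card (π j).ker := by
    calc _ ≤ Nat.card (mv (A := A) t).range * Nat.card {a : A // t • a = a} := Nat.mul_le_mul_left _ c5
      _ = Nat.card A := c4
      _ = Nat.card (π j).ker * Nat.card {a : A // π j a = a} := c2.symm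
      _ = _ := mul_comm _ _
  exact Nat.le_of_mul_le_mul_right c6 hpos

/-- (F+) -/
theorem split (D : NDat T π σ z) (l₀ : ι) {P : Subgroup N} (hP : IsPGroup 2 P) {t : N} (ht : t ∈ P) (h1 : t ≠ 1)
    (hs : Small A π l₀ t) {Y : Set N} (hY : ∀ y ∈ Y, y ∈ P ∧ y ≠ 1 ∧ Small A π l₀ y) (htY : t ∉ Y) (u : A) :
    ∃ v w : A, t • v = v ∧ (∀ y ∈ Y, y • w = w) ∧ u = v + w := by
  obtain ⟨g, hg⟩ := exists_conj T hP
  obtain ⟨a, b, hab⟩ := D.exists_Tp (hg t ht) (fun h => h1 (conj_eq_one_iff.1 h)) l₀ (by rw [rk_conj]; exact hs)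
  have hact : ∀ (x : N) (v : A), (g * x * g⁻¹) • g • v = g • x • v := by
    intro x v
    rw [← mul_smul, ← mul_smul, inv_mul_cancel_right]
  refine ⟨g⁻¹ • (g • u - (π a (g • u) + π b (g • u))), g⁻¹ • (π a (g • u) + π b (g • u)), ?_, ?_, ?_⟩
  · apply smul_left_cancel g
    rw [← hact, smul_inv_smul]
    apply D.smul_of_supp hab.supp
    · rw [map_sub, map_add, D.idem, D.orth a b hab.ne, add_zero, sub_self]
    · rw [map_sub, map_add, D.idem, D.orth b a hab.ne.symm, zero_add, sub_self]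
  · intro y hy
    obtain ⟨hyP, hy1, hys⟩ := hY y hy
    obtain ⟨a', b', hab'⟩ := D.exists_Tp (hg y hyP) (fun h => hy1 (conj_eq_one_iff.1 h)) l₀
      (by rw [rk_conj]; exact hys)
    obtain ⟨e1, e2, e3, e4⟩ := D.F_T hab hab' (by
      intro h
      have h2 := mul_left_cancel (mul_right_cancel h)
      exact htY (h2 ▸ hy))
    apply smul_left_cancel g
    rw [← hact, smul_inv_smul]
    apply D.smul_of_supp hab'.supp
    · rw [map_add, D.orth a' a e1.symm, D.orth a' b e3.symm, add_zero]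
    · rw [map_add, D.orth b' a e2.symm, D.orth b' b e4.symm, add_zero]
  · rw [← smul_add, sub_add_cancel, inv_smul_smul]

/-- the number of small elements of a 2-group -/
theorem card_small (D : NDat T π σ z) (l₀ : ι) {star : ι → ι} {tt : ι → N} (htt : ∀ l, Tp T π σ (tt l) l (star l))
    {P : Subgroup N} (hP : IsPGroup 2 P) {X : Finset N} (hX : ∀ x ∈ X, x ∈ P ∧ x ≠ 1 ∧ Small A π l₀ x) [DecidableEq N] :
    X.card ≤ (Finset.univ.image tt).card := by
  obtain ⟨g, hg⟩ := exists_conj T hP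
  refine Finset.card_le_card_of_injOn (fun x => g * x * g⁻¹) ?_ ?_
  · intro x hx
    obtain ⟨h1, h2, h3⟩ := hX x hx
    obtain ⟨a, b, hab⟩ := D.exists_Tp (hg x h1) (fun h => h2 (conj_eq_one_iff.1 h)) l₀ (by rw [rk_conj]; exact h3)
    refine Finset.mem_coe.2 (Finset.mem_image.2 ⟨a, Finset.mem_univ a, ?_⟩)
    exact (htt a).unique D hab
  · intro x _ y _ h
    exact mul_left_cancel (mul_right_cancel h)

/-- the uniqueness of the small element of `W` and its consequences -/
theorem uniq (D : NDat T π σ z) (l₀ : ι) {star : ι → ι} {tt : ι → N} (htt : ∀ l, Tp T π σ (tt l) l (star l))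
    {o : ι} {R W : Subgroup N} (hR : IsPGroup 2 R) (hTR : ∀ s ∈ (T : Subgroup N), σ s o = o → s ∈ R) (hWR : W ≤ R)
    (hWT : ∀ w ∈ W, w ∈ (T : Subgroup N) → σ w o = o → w = 1) {t t' : N} (ht : t ∈ W) (ht' : t' ∈ W) (h1 : t ≠ 1)
    (h1' : t' ≠ 1) (hs : Small A π l₀ t) (hs' : Small A π l₀ t') : t = t' := by
  classical
  by_contra hne
  have hmem : ∀ x ∈ (Finset.univ.image tt).erase (tt o), x ∈ R ∧ x ≠ 1 ∧ Small A π l₀ x ∧ (x ∈ (T : Subgroup N) ∧
      σ x o = o) := by
    intro x hx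
    obtain ⟨hx1, hx2⟩ := Finset.mem_erase.1 hx
    obtain ⟨l, -, rfl⟩ := Finset.mem_image.1 hx2
    have hlo : o ≠ l := by rintro rfl; exact hx1 rfl
    have hlo' : o ≠ star l := by
      intro h
      apply hx1
      have h2 := (htt l).symm
      rw [← h] at h2
      exact h2.unique D (htt o)
    have h3 := (htt l).off o hlo hlo'
    exact ⟨hTR _ (htt l).mem h3, (htt l).ne_one D, small_tp D l₀ (htt l), (htt l).mem, h3⟩
  have h2 : ∀ w ∈ W, w ≠ 1 → w ∉ (Finset.univ.image tt).erase (tt o) := by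
    intro w hw hw1 h
    obtain ⟨-, -, -, h3, h4⟩ := hmem w h
    exact hw1 (hWT w hw h3 h4)
  have h3 := card_small D l₀ htt hR (X := insert t (insert t' ((Finset.univ.image tt).erase (tt o)))) (by
    intro x hx
    rcases Finset.mem_insert.1 hx with rfl | hx
    · exact ⟨hWR ht, h1, hs⟩
    · rcases Finset.mem_insert.1 hx with rfl | hx
      · exact ⟨hWR ht', h1', hs'⟩
      · obtain ⟨a, b, c, -⟩ := hmem x hx
        exact ⟨a, b, c⟩)
  rw [Finset.card_insert_of_notMem, Finset.card_insert_of_notMem (h2 t' ht' h1'),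
    Finset.card_erase_of_mem (Finset.mem_image_of_mem tt (Finset.mem_univ o))] at h3
  · have : 0 < (Finset.univ.image tt).card :=
      Finset.card_pos.2 ⟨tt o, Finset.mem_image_of_mem tt (Finset.mem_univ o)⟩
    omega
  · intro h
    rcases Finset.mem_insert.1 h with h | h
    · exact hne h
    · exact h2 t ht h1 h

section cons

variable (D : NDat T π σ z) (l₀ : ι) {star : ι → ι} {tt : ι → N} (htt : ∀ l, Tp T π σ (tt l) l (star l))
    {o : ι} {R W : Subgroup N} (hR : IsPGroup 2 R) (hTR : ∀ s ∈ (T : Subgroup N), σ s o = o → s ∈ R) (hWR : W ≤ R)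
    (hTW : ∀ s ∈ (T : Subgroup N), σ s o = o → ∀ w ∈ W, s * w * s⁻¹ ∈ W)
    (hWT : ∀ w ∈ W, w ∈ (T : Subgroup N) → σ w o = o → w = 1) {t : N} (ht : t ∈ W) (h1 : t ≠ 1)
    (hs : Small A π l₀ t)
include D htt hR hTR hWR hWT ht h1 hs

include hTW in
theorem comm {s : N} (hsT : s ∈ (T : Subgroup N)) (hso : σ s o = o) : s * t = t * s := by
  have h := uniq D l₀ htt hR hTR hWR hWT (hTW s hsT hso t ht) ht (fun h => h1 (conj_eq_one_iff.1 h)) h1
    (hs.conj s) hs
  exact mul_inv_eq_iff_eq_mul.1 h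

theorem tt_ne {l : ι} (hl : l ≠ o) (hl' : star l ≠ o) : t ≠ tt l := by
  rintro rfl
  exact h1 (hWT _ ht (htt l).mem ((htt l).off o hl.symm hl'.symm))

/-- `t` centralises `[A, τ_l]` -/
theorem fix_comm {l : ι} (hl : l ≠ o) (hl' : star l ≠ o) (v : A) : t • (tt l • v - v) = tt l • v - v := by
  have hlR : tt l ∈ R := hTR _ (htt l).mem ((htt l).off o hl.symm hl'.symm)
  obtain ⟨hc, hi, -⟩ := D.F l₀ hR (hWR ht) hlR h1 ((htt l).ne_one D)
    (tt_ne D l₀ htt hR hTR hWR hWT ht h1 hs hl hl') hs (small_tp D l₀ (htt l))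
  apply hi (tt l • v - v) (t • v - v)
  rw [smul_sub, smul_sub, ← mul_smul, ← mul_smul, hc]
  abel

/-- `A = C_A(t) + C_A(τ_l : l ≠ o, o*)` -/
theorem split' (u : A) : ∃ v w : A, t • v = v ∧ (∀ l, l ≠ o → star l ≠ o → tt l • w = w) ∧ u = v + w := by
  obtain ⟨v, w, h2, h3, h4⟩ := split D l₀ hR (hWR ht) h1 hs (Y := {x | ∃ l, l ≠ o ∧ star l ≠ o ∧ tt l = x}) (by
    rintro _ ⟨l, hl, hl', rfl⟩
    exact ⟨hTR _ (htt l).mem ((htt l).off o hl.symm hl'.symm), (htt l).ne_one D, small_tp D l₀ (htt l)⟩) (by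
    rintro ⟨l, hl, hl', h⟩
    exact tt_ne D l₀ htt hR hTR hWR hWT ht h1 hs hl hl' h.symm) u
  exact ⟨v, w, h2, fun l hl hl' => h3 _ ⟨l, hl, hl', rfl⟩, h4⟩

end cons

end Cfsg.Agent.Omega.IId.SymTwo5.NLev
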