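import Mathlib

/-!
# Two pure steps of (B3) of THEOREM L2 (bb OMEGA 18061, helper290)

* `exists_b` : `M` an elementary abelian 2-group normalised by the 2-group `A` and by `x`, `x³ = 1` on `M`, `x ≠ 1` on
  `M`, every `a ∈ A` centralises or inverts `x` on `M`; then there is `b ∈ M`, `b ≠ 1`, fixed by `A`, with
  `b b^x b^(x²) = 1`;
* `card_range_le` : `D² = 0` on `E`, `π` idempotent, `π e = 0 = π (D e)` implies `D e = 0`; then `|D E| ≤ |π E|`;
* `ker_of_star` : the last hypothesis for `D = b - 1` and `π = x + x²`.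
-/

set_option autoImplicit false

namespace Cfsg.Agent.Omega.IId.SymTwo5

open Subgroup

section grp

variable {Γ : Type*} [Group Γ]

/-- the elements `m` with `m m^x m^(x²) = 1` -/
def mx (M : Subgroup Γ) (x : Γ) (hM : ∀ m ∈ M, ∀ n ∈ M, m * n = n * m) (hx : ∀ m ∈ M, x * m * x⁻¹ ∈ M) : Subgroup Γ where
  carrier := {m | m ∈ M ∧ m * (x * m * x⁻¹) * (x * (x * m * x⁻¹) * x⁻¹) = 1}
  one_mem' := ⟨one_mem M, by simp⟩
  mul_mem' := by
    rintro a b ⟨ha, ha1⟩ ⟨hb, hb1⟩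
    refine ⟨mul_mem ha hb, ?_⟩
    have h1 := hx a ha
    have h2 := hx b hb
    have h3 := hx _ h1
    have h4 := hx _ h2
    have e1 : x * (a * b) * x⁻¹ = (x * a * x⁻¹) * (x * b * x⁻¹) := by group
    have e2 : x * ((x * a * x⁻¹) * (x * b * x⁻¹)) * x⁻¹ =
        (x * (x * a * x⁻¹) * x⁻¹) * (x * (x * b * x⁻¹) * x⁻¹) := by group
    rw [e1, e2]
    calc a * b * (x * a * x⁻¹ * (x * b * x⁻¹)) * (x * (x * a * x⁻¹) * x⁻¹ * (x * (x * b * x⁻¹) * x⁻¹))
        = a * (b * (x * a * x⁻¹)) * (x * b * x⁻¹) * (x * (x * a * x⁻¹) * x⁻¹) * (x * (x * b * x⁻¹) * x⁻¹) := by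
          simp only [mul_assoc]
      _ = a * ((x * a * x⁻¹) * b) * (x * b * x⁻¹) * (x * (x * a * x⁻¹) * x⁻¹) * (x * (x * b * x⁻¹) * x⁻¹) := by
          rw [hM b hb _ h1]
      _ = a * (x * a * x⁻¹) * ((b * (x * b * x⁻¹)) * (x * (x * a * x⁻¹) * x⁻¹)) * (x * (x * b * x⁻¹) * x⁻¹) := by
          simp only [mul_assoc]
      _ = a * (x * a * x⁻¹) * ((x * (x * a * x⁻¹) * x⁻¹) * (b * (x * b * x⁻¹))) * (x * (x * b * x⁻¹) * x⁻¹) := by
          rw [hM _ (mul_mem hb h2) _ h3]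
      _ = (a * (x * a * x⁻¹) * (x * (x * a * x⁻¹) * x⁻¹)) * (b * (x * b * x⁻¹) * (x * (x * b * x⁻¹) * x⁻¹)) := by
          simp only [mul_assoc]
      _ = 1 := by rw [ha1, hb1, one_mul]
  inv_mem' := by
    rintro a ⟨ha, ha1⟩
    refine ⟨inv_mem ha, ?_⟩
    have h1 := hx a ha
    have h3 := hx _ h1
    have e1 : x * a⁻¹ * x⁻¹ = (x * a * x⁻¹)⁻¹ := by group
    have e2 : x * (x * a * x⁻¹)⁻¹ * x⁻¹ = (x * (x * a * x⁻¹) * x⁻¹)⁻¹ := by
      rw [mul_inv_rev (x * (x * a * x⁻¹)), mul_inv_rev x, inv_inv, mul_assoc]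
    rw [e1, e2, ← mul_inv_rev, ← mul_inv_rev, hM _ h3 _ (mul_mem h1 ha), hM _ h1 _ ha, ha1, inv_one]

theorem exists_b [Finite Γ] {M A : Subgroup Γ} (hM2 : ∀ m ∈ M, m * m = 1) (hM : ∀ m ∈ M, ∀ n ∈ M, m * n = n * m)
    (hA : IsPGroup 2 A) (hAM : ∀ a ∈ A, ∀ m ∈ M, a * m * a⁻¹ ∈ M) {x : Γ} (hx : ∀ m ∈ M, x * m * x⁻¹ ∈ M)
    (hx3 : ∀ m ∈ M, x * (x * (x * m * x⁻¹) * x⁻¹) * x⁻¹ = m)
    (hax : ∀ a ∈ A, (∀ m ∈ M, a * (x * m * x⁻¹) * a⁻¹ = x * (a * m * a⁻¹) * x⁻¹) ∨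
      ∀ m ∈ M, a * (x * m * x⁻¹) * a⁻¹ = x * (x * (a * m * a⁻¹) * x⁻¹) * x⁻¹)
    (hne : ∃ m ∈ M, x * m * x⁻¹ ≠ m) :
    ∃ b ∈ M, b ≠ 1 ∧ (∀ a ∈ A, a * b = b * a) ∧ b * (x * b * x⁻¹) * (x * (x * b * x⁻¹) * x⁻¹) = 1 := by
  have : Fact (Nat.Prime 2) := ⟨Nat.prime_two⟩
  let X := mx M x hM hx
  have hmem : ∀ {m}, m ∈ X ↔ m ∈ M ∧ m * (x * m * x⁻¹) * (x * (x * m * x⁻¹) * x⁻¹) = 1 := Iff.rfl
  have hAX : ∀ a ∈ A, ∀ m ∈ X, a * m * a⁻¹ ∈ X := by
    intro a ha m hm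
    obtain ⟨hm1, hm2⟩ := hmem.1 hm
    have hamM := hAM a ha m hm1
    refine hmem.2 ⟨hamM, ?_⟩
    have h1 := hx m hm1
    have h2 := hx _ h1
    have key : a * (m * (x * m * x⁻¹) * (x * (x * m * x⁻¹) * x⁻¹)) * a⁻¹ = 1 := by rw [hm2]; group
    have e : a * (m * (x * m * x⁻¹) * (x * (x * m * x⁻¹) * x⁻¹)) * a⁻¹ =
        (a * m * a⁻¹) * (a * (x * m * x⁻¹) * a⁻¹) * (a * (x * (x * m * x⁻¹) * x⁻¹) * a⁻¹) := by group
    rw [e] at key
    rcases hax a ha with h | h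
    · rw [h m hm1, h _ h1, h m hm1] at key
      exact key
    · have h3 := h m hm1
      have h4 := h _ h1
      rw [h3] at h4
      have h5 : x * (x * (x * (x * (a * m * a⁻¹) * x⁻¹) * x⁻¹) * x⁻¹) * x⁻¹ = x * (a * m * a⁻¹) * x⁻¹ := by
        rw [hx3 _ hamM]
      rw [h5] at h4
      rw [h3, h4, mul_assoc, hM _ (hx _ (hx _ hamM)) _ (hx _ hamM), ← mul_assoc] at key
      exact key
  obtain ⟨m, hm, hmx⟩ := hne
  have hm' : m * (x * m * x⁻¹) ∈ X := by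
    have h1 := hx m hm
    have h2 := hx _ h1
    refine hmem.2 ⟨mul_mem hm h1, ?_⟩
    have e1 : x * (m * (x * m * x⁻¹)) * x⁻¹ = (x * m * x⁻¹) * (x * (x * m * x⁻¹) * x⁻¹) := by group
    have e2 : x * ((x * m * x⁻¹) * (x * (x * m * x⁻¹) * x⁻¹)) * x⁻¹ =
        (x * (x * m * x⁻¹) * x⁻¹) * (x * (x * (x * m * x⁻¹) * x⁻¹) * x⁻¹) := by group
    rw [e1, e2, hx3 m hm]
    calc m * (x * m * x⁻¹) * (x * m * x⁻¹ * (x * (x * m * x⁻¹) * x⁻¹)) * (x * (x * m * x⁻¹) * x⁻¹ * m)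
        = m * ((x * m * x⁻¹) * (x * m * x⁻¹)) * ((x * (x * m * x⁻¹) * x⁻¹) * (x * (x * m * x⁻¹) * x⁻¹)) * m := by
          simp only [mul_assoc]
      _ = 1 := by rw [hM2 _ h1, hM2 _ h2, mul_one, mul_one, hM2 m hm]
  have hm1 : m * (x * m * x⁻¹) ≠ 1 := by
    intro h
    apply hmx
    have h1 := hM2 m hm
    rw [← h1] at h
    exact (mul_left_cancel h)
  let act : MulAction A X :=
    { smul := fun a m => ⟨(a : Γ) * m * (a : Γ)⁻¹, hAX a a.2 m m.2⟩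
      one_smul := fun m => Subtype.ext (by change (1 : Γ) * m * (1 : Γ)⁻¹ = m; group)
      mul_smul := fun a b m => Subtype.ext (by
        change ((a : Γ) * b) * m * ((a : Γ) * b)⁻¹ = a * (b * m * (b : Γ)⁻¹) * (a : Γ)⁻¹
        group) }
  have hsm : ∀ (a : A) (m : X), ((a • m : X) : Γ) = (a : Γ) * m * (a : Γ)⁻¹ := fun _ _ => rfl
  have hdvd : 2 ∣ Nat.card X := by
    have h1 : orderOf (⟨_, hm'⟩ : X) = 2 := by
      refine orderOf_eq_prime ?_ fun h => hm1 (congrArg Subtype.val h)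
      apply Subtype.ext
      rw [pow_two]
      exact hM2 _ (hmem.1 hm').1
    rw [← h1]
    exact orderOf_dvd_natCard _
  obtain ⟨b, hb, hb1⟩ := hA.exists_fixed_point_of_prime_dvd_card_of_fixed_point X hdvd
    (a := (1 : X)) (fun a => Subtype.ext (by rw [hsm]; simp))
  refine ⟨b, (hmem.1 b.2).1, fun h => hb1 (Subtype.ext h.symm), fun a ha => ?_, (hmem.1 b.2).2⟩
  have h := congrArg Subtype.val (hb ⟨a, ha⟩)
  rw [hsm] at h
  exact mul_inv_eq_iff_eq_mul.1 h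

end grp

section rank

variable {E : Type*} [AddCommGroup E]

/-- the rank estimate of (B3) -/
theorem card_range_le [Finite E] (D π : E →+ E) (hD : ∀ e, D (D e) = 0)
    (hπ : ∀ e, π (π e) = π e) (hker : ∀ e, π e = 0 → π (D e) = 0 → D e = 0) :
    Nat.card D.range ≤ Nat.card {e : E // π e = e} := by
  classical
  -- `I = ker π`, `Φ = π D I`
  let I : AddSubgroup E := π.ker
  let C : AddSubgroup E := π.range
  have hC : ∀ e, e ∈ C ↔ π e = e := fun e => ⟨by rintro ⟨f, rfl⟩; exact hπ f, fun h => ⟨e, h⟩⟩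
  have hcard : Nat.card {e : E // π e = e} = Nat.card C := Nat.card_congr (Equiv.subtypeEquivRight fun e => (hC e).symm)
  rw [hcard]
  -- `ψ : C → range D / D I`
  let DI : AddSubgroup E := I.map D
  let Φ : AddSubgroup E := DI.map π
  have hΦC : Φ ≤ C := by
    rintro _ ⟨e, -, rfl⟩
    exact ⟨e, rfl⟩
  -- |DI| = |Φ|
  have h1 : Nat.card DI = Nat.card Φ := by
    have hinj : Function.Injective (fun e : DI => (⟨π e, ⟨e, e.2, rfl⟩⟩ : Φ)) := by
      rintro ⟨_, e, he, rfl⟩ ⟨_, f, hf, rfl⟩ h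
      have h2 : π (D e) = π (D f) := congrArg Subtype.val h
      apply Subtype.ext
      change D e = D f
      rw [← sub_eq_zero, ← map_sub]
      apply hker
      · have he' : π e = 0 := he
        have hf' : π f = 0 := hf
        rw [map_sub, he', hf', sub_zero]
      · rw [map_sub, map_sub, h2, sub_self]
    have hsurj : Function.Surjective (fun e : DI => (⟨π e, ⟨e, e.2, rfl⟩⟩ : Φ)) := by
      rintro ⟨_, e, he, rfl⟩
      exact ⟨⟨e, he⟩, rfl⟩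
    exact Nat.card_eq_of_bijective _ ⟨hinj, hsurj⟩
  -- `D.range = DI + D C`
  have hdec : ∀ e : E, π (e - π e) = 0 := fun e => by rw [map_sub, hπ, sub_self]
  -- `D Φ ≤ DI`
  have hDΦ : ∀ e ∈ Φ, D e ∈ DI := by
    rintro _ ⟨_, ⟨e, he, rfl⟩, rfl⟩
    -- D e = u + v, u = D e - π (D e)
    have h2 : D (D e - π (D e)) + D (π (D e)) = 0 := by rw [← map_add, sub_add_cancel, hD]
    have h3 : D (π (D e)) = D (-(D e - π (D e))) := by
      rw [map_neg, eq_neg_iff_add_eq_zero, add_comm, h2]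
    rw [h3]
    exact ⟨_, I.neg_mem (hdec _), rfl⟩
  have hle : DI ≤ D.range := by
    rintro _ ⟨e, -, rfl⟩
    exact ⟨e, rfl⟩
  -- the indices
  have h2 : Nat.card D.range = Nat.card DI * DI.relIndex D.range := by
    rw [← AddSubgroup.relIndex_bot_left, ← AddSubgroup.relIndex_bot_left,
      AddSubgroup.relIndex_mul_relIndex _ _ _ bot_le hle]
  have h3 : Nat.card C = Nat.card Φ * Φ.relIndex C := by
    rw [← AddSubgroup.relIndex_bot_left, ← AddSubgroup.relIndex_bot_left,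
      AddSubgroup.relIndex_mul_relIndex _ _ _ bot_le hΦC]
  rw [h2, h3, h1]
  refine Nat.mul_le_mul_left _ ?_
  -- `C / Φ → D.range / DI` is onto
  let f : C →+ D.range ⧸ (DI.addSubgroupOf D.range) :=
    (QuotientAddGroup.mk' _).comp ((D.rangeRestrict).comp C.subtype)
  have hf : Function.Surjective f := by
    intro y
    obtain ⟨⟨_, e, rfl⟩, rfl⟩ := QuotientAddGroup.mk_surjective y
    refine ⟨⟨π e, ⟨e, rfl⟩⟩, ?_⟩
    change (QuotientAddGroup.mk (D.rangeRestrict (π e)) : D.range ⧸ (DI.addSubgroupOf D.range)) = _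
    rw [QuotientAddGroup.eq, AddSubgroup.mem_addSubgroupOf]
    change -(D (π e)) + D e ∈ DI
    rw [← map_neg, ← map_add]
    refine ⟨_, ?_, rfl⟩
    change π (-(π e) + e) = 0
    rw [neg_add_eq_sub]
    exact hdec e
  have hker' : ∀ c : C, (c : E) ∈ Φ → f c = 0 := by
    intro c hc
    change (QuotientAddGroup.mk (D.rangeRestrict (c : E)) : D.range ⧸ (DI.addSubgroupOf D.range)) = _
    rw [QuotientAddGroup.eq_zero_iff, AddSubgroup.mem_addSubgroupOf]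
    exact hDΦ c hc
  have h4 : f.ker.index = Nat.card (D.range ⧸ (DI.addSubgroupOf D.range)) := by
    rw [AddSubgroup.index_ker]
    have : f.range = ⊤ := AddMonoidHom.range_eq_top.2 hf
    rw [this]
    exact AddSubgroup.card_top
  have h5 : Φ.addSubgroupOf C ≤ f.ker := fun c hc => hker' c hc
  have h6 : f.ker.index ≤ (Φ.addSubgroupOf C).index :=
    Nat.le_of_dvd (Nat.pos_of_ne_zero (AddSubgroup.FiniteIndex.index_ne_zero)) (AddSubgroup.index_dvd_of_le h5)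
  rw [h4] at h6
  exact h6

end rank

section star

variable {Γ Y : Type*} [Group Γ] [AddCommGroup Y] [DistribMulAction Γ Y]

/-- the hypothesis `hker` of `card_range_le` from `b b^x b^(x²) = 1`: `e`, `b e - e` fixed by `x` imply `b e = e` -/
theorem ker_of_star {b x : Γ} (hb : b * b = 1)
    (hbx : b * (x * b * x⁻¹) * (x * (x * b * x⁻¹) * x⁻¹) = 1) {e : Y} (he : x • e = e)
    (hbe : x • (b • e - e) = b • e - e) : b • e = e := by
  have hxe : x⁻¹ • e = e := by rw [inv_smul_eq_iff, he]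
  have h0 : x • (b • e) = b • e := by
    rw [smul_sub, he] at hbe
    exact sub_left_injective hbe
  have h1 : (x * b * x⁻¹) • e = b • e := by rw [mul_smul, mul_smul, hxe, h0]
  have h2 : (x * (x * b * x⁻¹) * x⁻¹) • e = b • e := by rw [mul_smul, mul_smul, hxe, h1, h0]
  have h3 := congrArg (· • e) hbx
  simp only [mul_smul, one_smul] at h3
  have e2 : x • x • b • x⁻¹ • x⁻¹ • e = b • e := by
    rw [hxe, hxe, h0, h0]
  rw [e2] at h3
  have hbb : b • b • e = e := by rw [← mul_smul, hb, one_smul]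
  have hxbe : x⁻¹ • b • e = b • e := by rw [inv_smul_eq_iff, h0]
  rw [hxbe, hbb, he] at h3
  exact h3

end star

end Cfsg.Agent.Omega.IId.SymTwo5
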